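import Cfsg.Agent.CyclicFourFixed1914.Twist

/-!
# The case of a cyclic subgroup of index two
-/

namespace Cfsg.CyclicFourFixed1914

open Subgroup Cfsg.Agent.PGroupsCyclic Cfsg.Agent.PGroupsBasic Cfsg.FourGroupRank1915

variable {G : Type*} [Group G] [Finite G]

set_option maxHeartbeats 2000000
set_option linter.unusedSectionVars false

/-- The common hypotheses. -/
structure Setting (A P S : Subgroup G) (t w z : G) : Prop where
  frame : Frame A S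
  memS : ∀ g, g ∈ S ↔ g ∈ A ∧ g ∈ P
  two : IsPGroup 2 P
  sylow : ∃ PH : Sylow 2 ↥(A ⊔ zpowers t), ∀ g : ↥(A ⊔ zpowers t), g ∈ (PH : Subgroup _) ↔ (g : G) ∈ P
  tP : t ∈ P
  tN : ∀ h ∈ A ⊔ zpowers t, ∀ a ∈ A, h * a * h⁻¹ ∈ A
  tA : t ∉ A
  t2 : t ^ 2 = 1
  coset : ∀ g ∈ P, g ∈ A ∨ t * g ∈ A
  wS : w ∈ S
  wt : t * w = w * t
  w2 : w ^ 2 = z
  z2 : z ^ 2 = 1
  z1 : z ≠ 1
  fixed : ∀ x ∈ S, t * x = x * t → x ∈ zpowers w
  small : ∀ a ∈ A, ∀ b ∈ A, Four a b → t * a = a * t → t * b = b * t → False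

namespace Setting

variable {A P S : Subgroup G} {t w z : G}

theorem tinv (h : Setting A P S t w z) : t⁻¹ = t := inv_self_of_sq h.t2

theorem tt (h : Setting A P S t w z) : t * t = 1 := sq_two h.t2

theorem zS (h : Setting A P S t w z) : z ∈ S := h.w2 ▸ pow_mem h.wS 2

theorem tz (h : Setting A P S t w z) : t * z = z * t := by
  rw [← h.w2]; exact ((show Commute t w from h.wt).pow_right 2).eq

theorem w4 (h : Setting A P S t w z) : orderOf w = 2 ^ (1 + 1) := by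
  have : Fact (Nat.Prime 2) := ⟨Nat.prime_two⟩
  refine orderOf_eq_prime_pow ?_ ?_
  · rw [pow_one, h.w2]; exact h.z1
  · rw [pow_succ, pow_one, pow_mul, h.w2, h.z2]

theorem fixed_inv (h : Setting A P S t w z) {x : G} (hx : x ∈ S) (hxt : t * x = x * t)
    (hx2 : x ^ 2 = 1) : x = 1 ∨ x = z := by
  have := sq_eq_one_or_eq h.w4 (h.fixed x hx hxt) hx2
  rwa [pow_one, h.w2] at this

theorem conjS (h : Setting A P S t w z) {x : G} (hx : x ∈ S) : t * x * t ∈ S := by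
  obtain ⟨h1, h2⟩ := (h.memS x).1 hx
  refine (h.memS _).2 ⟨?_, mul_mem (mul_mem h.tP h2) h.tP⟩
  simpa [h.tinv] using h.tN t (mem_sup_right (mem_zpowers t)) x h1

end Setting

theorem dvd_succ_of_sq {n : ℕ} {a : ℤ} (h : (2 : ℤ) ^ (n + 2) ∣ a * a - 1) (h3 : a % 4 = 3) :
    (2 : ℤ) ^ (n + 1) ∣ a + 1 := by
  obtain ⟨k, hk⟩ : ∃ k, a = 4 * k + 3 := ⟨a / 4, by omega⟩
  rw [show a * a - 1 = 2 * ((2 * k + 1) * (a + 1)) by rw [hk]; ring, pow_succ' (2 : ℤ) (n + 1),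
    mul_dvd_mul_iff_left two_ne_zero] at h
  exact (IsCoprime.pow_left ⟨-k, 1, by ring⟩ : IsCoprime ((2 : ℤ) ^ (n + 1)) (2 * k + 1)).dvd_of_dvd_mul_left h

/-- An involution inverting a cyclic group, up to the central involution. -/
theorem conj_inv_or {X g : G} {n : ℕ} (hX : orderOf X = 2 ^ (n + 2)) {a : ℤ}
    (hg : g * X * g⁻¹ = X ^ a) (hgg : g * g * X = X * (g * g)) (h3 : a % 4 = 3) :
    g * X * g⁻¹ = X⁻¹ ∨ g * X * g⁻¹ = X⁻¹ * X ^ (2 ^ (n + 1)) := by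
  have h1 : X ^ (a * a) = X := by
    rw [← conj_zpow_eq hg a, ← hg]
    calc g * (g * X * g⁻¹) * g⁻¹ = (g * g * X) * (g * g)⁻¹ := by group
      _ = X := by rw [hgg, mul_inv_cancel_right]
  conv_rhs at h1 => rw [← zpow_one X]
  rw [zpow_eq_iff_dvd, hX] at h1
  push_cast at h1
  have h2 := dvd_succ_of_sq h1 h3
  have h4 : (X ^ (a + 1)) ^ 2 = 1 := by
    rw [← zpow_natCast, ← zpow_mul, ← orderOf_dvd_iff_zpow_eq_one, hX]
    push_cast
    rw [pow_succ (2 : ℤ) (n + 1)]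
    exact mul_dvd_mul_right h2 2
  have h5 : g * X * g⁻¹ = X⁻¹ * X ^ (a + 1) := by
    rw [hg, ← zpow_neg_one, ← zpow_add]; ring_nf
  rcases sq_eq_one_or_eq hX (zpow_mem (mem_zpowers X) _) h4 with e | e
  · left; rw [h5, e, mul_one]
  · right; rw [h5, e]

theorem Setting.centralizes_conj {A P S : Subgroup G} {t w z : G} (h : Setting A P S t w z)
    {x g h₀ : G} (hh : h₀ ∈ A ⊔ zpowers t) (hx : h₀ * x * h₀⁻¹ = g)
    (hex : ∃ a ∈ A, ∃ b ∈ A, Four a b ∧ x * a = a * x ∧ x * b = b * x) :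
    ∃ a ∈ A, ∃ b ∈ A, Four a b ∧ g * a = a * g ∧ g * b = b * g := by
  obtain ⟨c, hc, d, hd, hcd, h1, h2⟩ := hex
  subst hx
  refine ⟨_, h.tN h₀ hh c hc, _, h.tN h₀ hh d hd, hcd.conj h₀, ?_, ?_⟩
  · calc h₀ * x * h₀⁻¹ * (h₀ * c * h₀⁻¹) = h₀ * (x * c) * h₀⁻¹ := by group
      _ = _ := by rw [h1]; group
  · calc h₀ * x * h₀⁻¹ * (h₀ * d * h₀⁻¹) = h₀ * (x * d) * h₀⁻¹ := by group
      _ = _ := by rw [h2]; group

/-- Transfer into the quotient by `Q` separates `t` and `v`. -/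
theorem Setting.transfer_false {A P S : Subgroup G} {t w z : G} (h : Setting A P S t w z)
    (Q : Subgroup G) {X v : G} (hXP : X ∈ P) (hXQ : X ∉ Q)
    (hidx : ∀ g ∈ P, g ∉ Q → ∀ g' ∈ P, g' ∉ Q → g * g' ∈ Q) (htQ : t ∉ Q) (hvP : v ∈ P)
    (hv2 : v ^ 2 = 1) (hv1 : v ≠ 1) (hvA : v ∉ A) (hvQ : v ∈ Q)
    (hbad : ∀ g ∈ P, g ^ 2 = 1 → g ∉ A → g ∈ Q →
      ∃ a ∈ A, ∃ b ∈ A, Four a b ∧ g * a = a * g ∧ g * b = b * g)
    (hgood : ∀ g ∈ P, g ^ 2 = 1 → g ∉ A → g ∉ Q →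
      ¬ ∃ a ∈ A, ∃ b ∈ A, Four a b ∧ g * a = a * g ∧ g * b = b * g)
    (htv : t * v ∈ A) : False := by
  have : Fact (Nat.Prime 2) := ⟨Nat.prime_two⟩
  obtain ⟨PH, hPH⟩ := h.sylow
  have htH : t ∈ A ⊔ zpowers t := mem_sup_right (mem_zpowers t)
  have hvH : v ∈ A ⊔ zpowers t := by
    simpa using mul_mem (inv_mem htH) (mem_sup_left htv : t * v ∈ A ⊔ zpowers t)
  have hPle : ∀ g ∈ P, g ∈ A ⊔ zpowers t := by
    intro g hg
    rcases h.coset g hg with e | e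
    · exact mem_sup_left e
    · simpa using mul_mem (inv_mem htH) (mem_sup_left e : t * g ∈ A ⊔ zpowers t)
  let Q' : Subgroup (PH : Subgroup ↥(A ⊔ zpowers t)) :=
    Q.comap ((A ⊔ zpowers t).subtype.comp (PH : Subgroup ↥(A ⊔ zpowers t)).subtype)
  have hmemQ' : ∀ y, y ∈ Q' ↔ ((y : ↥(A ⊔ zpowers t)) : G) ∈ Q := fun y => Iff.rfl
  have hQ'2 : Q'.index = 2 := by
    rw [index_eq_two_iff]
    refine ⟨⟨⟨X, hPle X hXP⟩, (hPH _).2 hXP⟩, fun b => ?_⟩
    have hbP := (hPH (b : ↥(A ⊔ zpowers t))).1 b.2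
    by_cases hb : ((b : ↥(A ⊔ zpowers t)) : G) ∈ Q
    · exact Or.inr ⟨hb, fun e => hXQ ((mul_mem_cancel_left hb).1 e)⟩
    · exact Or.inl ⟨hidx _ hbP hb X hXP hXQ, hb⟩
  haveI := normal_of_index_eq_two hQ'2
  haveI : IsCyclic ((PH : Subgroup ↥(A ⊔ zpowers t)) ⧸ Q') := isCyclic_of_prime_card (p := 2) hQ'2
  let _ : CommGroup ((PH : Subgroup ↥(A ⊔ zpowers t)) ⧸ Q') :=
    { (inferInstance : Group ((PH : Subgroup ↥(A ⊔ zpowers t)) ⧸ Q')) with
      mul_comm := fun a b => Std.Commutative.comm (self := IsCyclic.isMulCommutative.is_comm) a b }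
  let ϕ : (PH : Subgroup ↥(A ⊔ zpowers t)) →* _ ⧸ Q' := QuotientGroup.mk' Q'
  have hmul : ∀ y y' : (PH : Subgroup ↥(A ⊔ zpowers t)), y ∉ Q' → y' ∉ Q' → ϕ y = ϕ y' :=
    fun y y' h1 h2 => QuotientGroup.eq.2 (by
      rw [mul_mem_iff_of_index_two hQ'2, inv_mem_iff]; exact iff_of_false h1 h2)
  have hconjA : ∀ (x : G) (g : ↥(A ⊔ zpowers t)), x ∉ A → (g : G)⁻¹ * x * g ∉ A := by
    intro x g hx e
    apply hx
    have := h.tN g g.2 _ e
    rwa [show (g : G) * ((g : G)⁻¹ * x * g) * (g : G)⁻¹ = x by group] at this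
  have hsq : ∀ (x : G) (g : ↥(A ⊔ zpowers t)), x ^ 2 = 1 → ((g : G)⁻¹ * x * g) ^ 2 = 1 := by
    intro x g hx
    rw [show (g : G)⁻¹ * x * g = (g : G)⁻¹ * x * ((g : G)⁻¹)⁻¹ by group, conj_pow, hx, mul_one,
      mul_inv_cancel]
  have hpow : ∀ (x : G) (hx : x ∈ A ⊔ zpowers t), x ^ 2 = 1 → ∀ (g : ↥(A ⊔ zpowers t)) (k : ℕ),
      2 ∣ k → ∀ hm : g⁻¹ * ⟨x, hx⟩ ^ k * g ∈ (PH : Subgroup ↥(A ⊔ zpowers t)), ϕ ⟨_, hm⟩ = 1 := by
    intro x hxH hx g k hk hm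
    obtain ⟨l, rfl⟩ := hk
    have : (⟨_, hm⟩ : (PH : Subgroup ↥(A ⊔ zpowers t))) = 1 := by
      apply Subtype.ext; apply Subtype.ext
      simp [pow_mul, hx]
    rw [this, map_one]
  have hVt : MonoidHom.transfer ϕ ⟨t, htH⟩ ≠ 1 := by
    refine Cfsg.Agent.TransferThompson.transfer_ne_one PH (PH.isPGroup'.to_quotient Q') ϕ
      ((hPH _).2 h.tP) (fun e => htQ ((QuotientGroup.eq_one_iff (N := Q') _).mp e))
      (hpow t htH h.t2) ?_
    intro g hm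
    refine hmul _ _ (fun e => ?_) (fun e => htQ e)
    have hex := hbad _ ((hPH _).1 hm) (hsq t g h.t2) (hconjA t g h.tA) e
    obtain ⟨c, hc, d, hd, hcd, h1, h2⟩ := h.centralizes_conj (g := t) g.2 (by simp [mul_assoc]) hex
    exact h.small c hc d hd hcd h1 h2
  obtain ⟨N, -, hVv⟩ := Cfsg.Agent.TransferThompson.transfer_eq_pow_fixed (p := 2) ϕ
    (x := ⟨v, hvH⟩) (e := 1) (orderOf_eq_prime (Subtype.ext hv2)
      (fun e => hv1 (congrArg Subtype.val e))) 1 (hpow v hvH hv2) (fun g hm => by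
    refine (QuotientGroup.eq_one_iff (N := Q') _).2 ((hmemQ' _).2 ?_)
    by_contra e
    exact hgood ((g : G)⁻¹ * v * g) ((hPH _).1 hm) (hsq v g hv2) (hconjA v g hvA) e
      (h.centralizes_conj (x := v) (g := (g : G)⁻¹ * v * g) (h₀ := (g : G)⁻¹) (inv_mem g.2)
        (by rw [inv_inv]) (hbad v hvP hv2 hvA hvQ)))
  rw [one_pow] at hVv
  have hker : (⊤ : Subgroup A) ≤ ((MonoidHom.transfer ϕ).comp
      (Subgroup.inclusion (le_sup_left : A ≤ A ⊔ zpowers t))).ker := by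
    rw [← h.frame.perf]
    exact Abelianization.commutator_subset_ker _
  have hAv : MonoidHom.transfer ϕ (⟨t, htH⟩ * ⟨v, hvH⟩) = 1 := by
    have h1 := MonoidHom.mem_ker.mp (hker (mem_top (⟨t * v, htv⟩ : A)))
    rw [MonoidHom.comp_apply] at h1
    have e : (⟨t, htH⟩ * ⟨v, hvH⟩ : ↥(A ⊔ zpowers t)) =
        Subgroup.inclusion (le_sup_left : A ≤ A ⊔ zpowers t) ⟨t * v, htv⟩ := Subtype.ext rfl
    rw [e]
    exact h1
  rw [map_mul, hVv, mul_one] at hAv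
  exact hVt hAv

theorem Setting.case_cyclic {A P S : Subgroup G} {t w z : G} (h : Setting A P S t w z) {X : G}
    {n : ℕ} (hRot : Rot S X n) (hRn : ∀ p ∈ P, p * X * p⁻¹ ∈ zpowers X)
    {a₁ b₁ : G} (ha₁ : a₁ ∈ S) (hb₁ : b₁ ∈ S) (h₁ : Four a₁ b₁) : False := by
  have : Fact (Nat.Prime 2) := ⟨Nat.prime_two⟩
  have hXS := hRot.mem
  have hXo := hRot.ord
  have hRS : zpowers X ≤ S := zpowers_le.mpr hXS
  have hSP : ∀ g ∈ S, g ∈ P := fun g hg => ((h.memS g).1 hg).2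
  have hSA : ∀ g ∈ S, g ∈ A := fun g hg => ((h.memS g).1 hg).1
  set w0 : G := X ^ (2 ^ n) with hw0
  have hw0R : w0 ∈ zpowers X := pow_mem (mem_zpowers X) _
  have hw02' : w0 ^ 2 = X ^ (2 ^ (n + 1)) := by rw [hw0, ← pow_mul, ← pow_succ]
  set z' : G := X ^ (2 ^ (n + 1)) with hz'
  have hz'2 : z' ^ 2 = 1 := by
    rw [hz', ← pow_mul, ← pow_succ, ← hXo, pow_orderOf_eq_one]
  have hz'1 : z' ≠ 1 := by
    intro e
    have := orderOf_dvd_of_pow_eq_one e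
    rw [hXo, Nat.pow_dvd_pow_iff_le_right (by norm_num)] at this
    omega
  have hinv : ∀ y ∈ zpowers X, y ^ 2 = 1 → y = 1 ∨ y = z' := fun y hy h2 =>
    sq_eq_one_or_eq (n := n + 1) hXo hy h2
  have hz'P : ∀ p ∈ P, p * z' = z' * p := by
    intro p hp
    obtain ⟨a, ha⟩ := mem_zpowers_iff.mp (hRn p hp)
    have hm : p * z' * p⁻¹ ∈ zpowers X := by
      rw [hz', ← conj_pow]; exact pow_mem (hRn p hp) _
    rcases hinv _ hm (by rw [conj_pow, hz'2, mul_one, mul_inv_cancel]) with e | e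
    · exact absurd (conj_eq_one_iff.1 e) hz'1
    · exact mul_inv_eq_iff_eq_mul.1 e
  have hzz : z' = z := (h.fixed_inv (hRS (pow_mem (mem_zpowers X) _)) (hz'P t h.tP) hz'2).resolve_left hz'1
  have hzP : ∀ p ∈ P, p * z = z * p := fun p hp => hzz ▸ hz'P p hp
  have hw02 : w0 ^ 2 = z := hw02'.trans hzz
  obtain ⟨s₀, hs₀S, hs₀R, hs₀2⟩ : ∃ s ∈ S, s ∉ zpowers X ∧ s ^ 2 = 1 := by
    obtain ⟨ha1, hb1, hne, ha2, hb2, -⟩ := h₁
    by_cases ha : a₁ ∈ zpowers X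
    · refine ⟨b₁, hb₁, fun hb => hne ?_, hb2⟩
      exact ((hinv _ ha ha2).resolve_left ha1).trans ((hinv _ hb hb2).resolve_left hb1).symm
    · exact ⟨a₁, ha₁, ha, ha2⟩
  obtain ⟨a, ha⟩ := mem_zpowers_iff.mp (hRn t h.tP)
  have ha' : t * X * t⁻¹ = X ^ a := ha.symm
  have hxxN : ∀ y ∈ S, ∀ b ∈ A, t * y * b * (t * y)⁻¹ ∈ A := fun y hy b hb =>
    h.tN _ (mul_mem (mem_sup_right (mem_zpowers t)) (mem_sup_left (hSA y hy))) b hb
  have hxxA : ∀ y ∈ S, t * y ∉ A := fun y hy e => h.tA (by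
    simpa using mul_mem e (inv_mem (hSA y hy)))
  have htwist : ∀ y ∈ S, ∀ s ∈ S, s ∉ zpowers X → s ^ 2 = 1 → t * y * s = s * (t * y) →
      (t * y) ^ 2 = z → False := by
    intro y hy s hs hsR hs2 hc hsq
    refine hRot.twist_false h.frame hs hsR hs2 (fun p hp => hz'P p (hSP p hp)) (hxxN y hy)
      (hxxA y hy) (hz'P _ (mul_mem h.tP (hSP y hy))) hc (hsq.trans hzz.symm)
  by_cases hfix : t * w0 = w0 * t
  · -- `t` centralizes `w0`
    have ha4 : (4 : ℤ) ∣ a - 1 := by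
      have h2 : t * w0 * t⁻¹ = w0 := by rw [hfix, mul_inv_cancel_right]
      rw [hw0, ← zpow_natCast, conj_zpow_eq ha', zpow_eq_iff_dvd, hXo] at h2
      push_cast at h2
      rw [show a * 2 ^ n - 2 ^ n = (a - 1) * 2 ^ n by ring, pow_add, mul_comm ((2 : ℤ) ^ n)] at h2
      simpa using (mul_dvd_mul_iff_right (by positivity : (2 : ℤ) ^ n ≠ 0)).1 h2
    set q := t * s₀ * t * s₀ with hq
    have htsS := h.conjS hs₀S
    have htsR : t * s₀ * t ∉ zpowers X := by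
      intro e
      apply hs₀R
      obtain ⟨i, hi⟩ := mem_zpowers_iff.mp e
      have := conj_zpow_eq ha' i
      rw [hi, h.tinv, show t * (t * s₀ * t) * t = (t * t) * s₀ * (t * t) by group, h.tt, one_mul,
        mul_one] at this
      exact this ▸ zpow_mem (mem_zpowers X) _
    have hqR : q ∈ zpowers X := hRot.idx _ htsS htsR s₀ hs₀S hs₀R
    have hqt : t * q * t⁻¹ = q⁻¹ := by
      rw [hq, h.tinv, mul_inv_rev, mul_inv_rev, mul_inv_rev, h.tinv, inv_self_of_sq hs₀2]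
      calc t * (t * s₀ * t * s₀) * t = (t * t) * s₀ * (t * s₀ * t) := by group
        _ = _ := by rw [h.tt, one_mul]; group
    have hq2 : q ^ 2 = 1 := by
      obtain ⟨j, hj⟩ := mem_zpowers_iff.mp hqR
      have h1 := conj_zpow_eq ha' j
      rw [hj, hqt, ← hj, ← zpow_neg, zpow_eq_iff_dvd, hXo] at h1
      push_cast at h1
      obtain ⟨k, hk⟩ := ha4
      rw [← hj, ← zpow_natCast, ← zpow_mul, ← orderOf_dvd_iff_zpow_eq_one, hXo]
      push_cast
      have hcop : IsCoprime ((2 : ℤ) ^ (n + 2)) (2 * k + 1) :=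
        IsCoprime.pow_left ⟨-k, 1, by ring⟩
      rw [show -j - a * j = (2 * k + 1) * -(j * 2) by
        rw [show a = 4 * k + 1 by omega]; ring] at h1
      exact dvd_neg.1 (hcop.dvd_of_dvd_mul_left h1)
    have hts : t * s₀ * t = q * s₀ := by
      rw [hq, mul_assoc (t * s₀ * t), sq_two hs₀2, mul_one]
    rcases h.fixed_inv (hRS hqR) (by
        rw [inv_self_of_sq hq2] at hqt
        exact mul_inv_eq_iff_eq_mul.1 hqt) hq2 with e | e
    · rw [e, one_mul] at hts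
      refine h.small z (hSA _ h.zS) s₀ (hSA _ hs₀S) ⟨h.z1, ?_, ?_, h.z2, hs₀2,
        (hzP s₀ (hSP _ hs₀S)).symm⟩ h.tz ?_
      · exact fun e => hs₀R (e ▸ one_mem _)
      · exact fun e => hs₀R (e ▸ hzz ▸ pow_mem (mem_zpowers X) _)
      · calc t * s₀ = t * s₀ * (t * t) := by rw [h.tt, mul_one]
          _ = t * s₀ * t * t := by group
          _ = s₀ * t := by rw [hts]
    · rw [e] at hts
      have hws : w0 * s₀ * w0⁻¹ = z * s₀ := by
        obtain ⟨r, hr, hr4⟩ := hRot.act s₀ hs₀S hs₀R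
        have h1 : s₀ * w0 * s₀⁻¹ = w0⁻¹ := by
          rw [hw0, ← zpow_natCast, conj_zpow_eq hr, ← zpow_neg, zpow_eq_iff_dvd, hXo]
          push_cast
          obtain ⟨k, hk⟩ : ∃ k, r = 4 * k + 3 := ⟨r / 4, by omega⟩
          exact ⟨k + 1, by rw [hk, pow_add]; ring⟩
        have h2 : s₀ * w0⁻¹ = w0 * s₀ := by
          calc s₀ * w0⁻¹ = (s₀ * w0 * s₀⁻¹)⁻¹ * s₀ := by group
            _ = w0 * s₀ := by rw [h1, inv_inv]
        calc w0 * s₀ * w0⁻¹ = w0 * (s₀ * w0⁻¹) := by group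
          _ = w0 * (w0 * s₀) := by rw [h2]
          _ = z * s₀ := by rw [← mul_assoc, ← pow_two, hw02]
      refine htwist w0 (hRS hw0R) s₀ hs₀S hs₀R hs₀2 ?_ ?_
      · apply mul_inv_eq_iff_eq_mul.1
        calc t * w0 * s₀ * (t * w0)⁻¹ = t * (w0 * s₀ * w0⁻¹) * t⁻¹ := by group
          _ = t * z * (s₀ * t⁻¹) := by rw [hws]; group
          _ = z * (t * s₀ * t) := by rw [h.tz, h.tinv]; group
          _ = s₀ := by rw [hts, ← mul_assoc, sq_two h.z2, one_mul]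
      · rw [(show Commute t w0 from hfix).mul_pow, h.t2, one_mul, hw02]
  -- `t` inverts `w0`
  have ha3 : a % 4 = 3 := by
    have hodd : Odd a := by
      by_contra hne
      obtain ⟨k, hk⟩ := Int.not_odd_iff_even.1 hne
      have h1 : t * z' * t⁻¹ = 1 := by
        rw [hz', ← zpow_natCast, conj_zpow_eq ha', ← orderOf_dvd_iff_zpow_eq_one, hXo]
        push_cast
        exact ⟨k, by rw [hk, pow_succ (2 : ℤ) (n + 1)]; ring⟩
      exact hz'1 (conj_eq_one_iff.1 h1)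
    by_contra h3
    obtain ⟨k, hk⟩ : ∃ k, a = 4 * k + 1 := ⟨a / 4, by obtain ⟨l, rfl⟩ := hodd; omega⟩
    apply hfix
    apply mul_inv_eq_iff_eq_mul.1
    rw [hw0, ← zpow_natCast, conj_zpow_eq ha', zpow_eq_iff_dvd, hXo]
    push_cast
    exact ⟨k, by rw [hk, pow_add]; ring⟩
  have hwR : w ∉ zpowers X := by
    intro hw
    apply hfix
    rcases hinv (w * w0⁻¹) (mul_mem hw (inv_mem hw0R)) (by
      have hc : Commute w w0⁻¹ := by
        obtain ⟨i, rfl⟩ := mem_zpowers_iff.mp hw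
        exact ((Commute.refl X).zpow_left i |>.pow_right _).inv_right
      rw [hc.mul_pow, inv_pow, hw02, h.w2, mul_inv_cancel]) with e | e
    · rw [← eq_of_mul_inv_eq_one e]; exact h.wt
    · rw [show w0 = z'⁻¹ * w by rw [← e]; group]
      exact ((show Commute t z' from hz'P t h.tP).inv_right.mul_right h.wt).eq
  obtain ⟨r, hr, hr4⟩ := hRot.act w h.wS hwR
  have hwz : w * w * X = X * (w * w) := by
    rw [← pow_two, h.w2]; exact (hzP X (hSP X hXS)).symm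
  obtain ⟨i, hi⟩ := mem_zpowers_iff.mp (hRot.idx w⁻¹ (inv_mem h.wS)
    (fun e => hwR (inv_mem_iff.1 e)) s₀ hs₀S hs₀R)
  have hs₀eq : s₀ = w * X ^ i := by rw [hi]; group
  have hwX : w * X * w⁻¹ = X⁻¹ * z := by
    rcases conj_inv_or hXo hr hwz hr4 with e | e
    · exfalso
      apply h.z1
      rw [← hs₀2, hs₀eq, pow_two]
      have h1 : w * X ^ i * w⁻¹ = (X ^ i)⁻¹ := by rw [← conj_zpow, e, inv_zpow]
      symm
      calc w * X ^ i * (w * X ^ i) = (w * X ^ i * w⁻¹) * (w ^ 2) * X ^ i := by group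
        _ = (X ^ i)⁻¹ * (z * X ^ i) := by rw [h1, h.w2]; group
        _ = z := by rw [← hzP _ (hSP _ (zpow_mem hXS i)), inv_mul_cancel_left]
    · exact e.trans (congrArg (X⁻¹ * ·) hzz)
  obtain ⟨m, rfl⟩ : ∃ m, n = m + 1 := by
    refine Nat.exists_eq_succ_of_ne_zero ?_
    rintro rfl
    apply h.z1
    have h1 : X ^ r = X⁻¹ * z := hr.symm.trans hwX
    have h2 : X ^ (r + 1) = 1 := by
      rw [← orderOf_dvd_iff_zpow_eq_one, hXo]
      obtain ⟨k, hk⟩ : ∃ k, r = 4 * k + 3 := ⟨r / 4, by omega⟩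
      exact ⟨k + 1, by rw [hk]; push_cast; ring⟩
    rw [zpow_add_one, h1, mul_assoc, ← hzP X (hSP X hXS), inv_mul_cancel_left] at h2
    exact h2
  have hXz : ∀ y : G, y * X * y⁻¹ = X * z → y * w0 * y⁻¹ = w0 := by
    intro y hy
    rw [hw0, ← conj_pow, hy, (show Commute X z from hzP X (hSP X hXS)).mul_pow, pow_succ' 2 m,
      pow_mul z, h.z2, one_pow, mul_one]
  have hXz' : ∀ y : G, y * X * y⁻¹ = X⁻¹ * z → y * w0 * y⁻¹ = w0⁻¹ := by
    intro y hy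
    rw [hw0, ← conj_pow, hy, (show Commute X z from hzP X (hSP X hXS)).inv_left.mul_pow, inv_pow,
      pow_succ' 2 m, pow_mul z, h.z2, one_pow, mul_one]
  set s := w * X with hs
  have hsS : s ∈ S := mul_mem h.wS hXS
  have hsR : s ∉ zpowers X := fun e => hwR ((mul_mem_cancel_right (mem_zpowers X)).1 e)
  have hs2 : s ^ 2 = 1 := by
    calc (w * X) ^ 2 = (w * X * w⁻¹) * w ^ 2 * X := by rw [pow_two]; group
      _ = X⁻¹ * (z * z) * X := by rw [hwX, h.w2]; group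
      _ = 1 := by rw [sq_two h.z2]; group
  have hsX : s * X * s⁻¹ = X⁻¹ * z := by
    rw [← hwX, hs]; group
  have hta : t * t * X = X * (t * t) := by rw [h.tt, one_mul, mul_one]
  have hXzS : (X⁻¹ * z)⁻¹ = z⁻¹ * X := by group
  have hzi : z⁻¹ = z := inv_self_of_sq h.z2
  have hzX : z * X = X * z := (hzP X (hSP X hXS)).symm
  rcases conj_inv_or hXo ha' hta ha3 with htX | htX
  swap
  · -- `t` acts as `w`
    replace htX : t * X * t⁻¹ = X⁻¹ * z := htX.trans (congrArg (X⁻¹ * ·) hzz)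
    refine htwist w h.wS s hsS hsR hs2 ?_ ?_
    · apply mul_inv_eq_iff_eq_mul.1
      calc t * w * (w * X) * (t * w)⁻¹ = t * w * t⁻¹ * (t * (w * X * w⁻¹) * t⁻¹) := by group
        _ = w * ((t * X * t⁻¹)⁻¹ * (t * z * t⁻¹)) := by rw [h.wt, mul_inv_cancel_right, hwX]; group
        _ = w * X := by
          rw [htX, h.tz, mul_inv_cancel_right, hXzS, hzi, hzX, mul_assoc, sq_two h.z2, mul_one]
    · rw [(show Commute t w from h.wt).mul_pow, h.t2, one_mul, h.w2]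
  -- `t` inverts `X`
  set v := t * w * w0 with hv
  have hyX : t * w * X * (t * w)⁻¹ = X * z := by
    calc t * w * X * (t * w)⁻¹ = t * (w * X * w⁻¹) * t⁻¹ := by group
      _ = (t * X * t⁻¹)⁻¹ * (t * z * t⁻¹) := by rw [hwX]; group
      _ = _ := by rw [htX, inv_inv, h.tz, mul_inv_cancel_right]
  have hyw0 : Commute (t * w) w0 := mul_inv_eq_iff_eq_mul.1 (hXz _ hyX)
  have hv2 : v ^ 2 = 1 := by
    rw [hv, hyw0.mul_pow, (show Commute t w from h.wt).mul_pow, h.t2, h.w2, one_mul, hw02,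
      sq_two h.z2]
  have hvA : v ∉ A := by
    rw [hv, mul_assoc]; exact hxxA _ (mul_mem h.wS (hRS hw0R))
  have hvP : v ∈ P := mul_mem (mul_mem h.tP (hSP _ h.wS)) (hSP _ (hRS hw0R))
  have hvX : v * X * v⁻¹ = X * z := by
    rw [hv, show t * w * w0 * X * (t * w * w0)⁻¹ = t * w * (w0 * X * w0⁻¹) * (t * w)⁻¹ by group,
      hw0, (Commute.pow_self X _).eq, mul_inv_cancel_right, hyX]
  have hvw : v * w * v⁻¹ = z * w := by
    have h1 : w0 * w * w0⁻¹ = z * w := by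
      calc w0 * w * w0⁻¹ = w0 * (w * w0⁻¹ * w⁻¹) * w := by group
        _ = w0 * (w * w0 * w⁻¹)⁻¹ * w := by group
        _ = _ := by rw [hXz' w hwX, inv_inv, ← pow_two, hw02]
    calc v * w * v⁻¹ = t * w * (w0 * w * w0⁻¹) * (t * w)⁻¹ := by rw [hv]; group
      _ = t * (w * z * w⁻¹) * (w * w * (t * w)⁻¹) * w⁻¹ * w := by rw [h1]; group
      _ = z * w := by
        rw [hzP w (hSP _ h.wS), mul_inv_cancel_right, mul_inv_rev]
        calc t * z * (w * w * (w⁻¹ * t⁻¹)) * w⁻¹ * w = t * z * w * t⁻¹ := by group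
          _ = z * (t * w) * t⁻¹ := by rw [h.tz]; group
          _ = z * w := by rw [h.wt]; group
  have hvs : s * v = v * s := by
    refine (mul_inv_eq_iff_eq_mul.1 ?_).symm
    calc v * (w * X) * v⁻¹ = (v * w * v⁻¹) * (v * X * v⁻¹) := by group
      _ = z * w * (z * X) := by rw [hvw, hvX, hzX]
      _ = w * X := by
        rw [← mul_assoc, mul_assoc z w z, hzP w (hSP _ h.wS), ← mul_assoc, sq_two h.z2, one_mul]
  have hs1 : s ≠ 1 := fun e => hsR (e ▸ one_mem _)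
  have hsv : Four s v :=
    ⟨hs1, fun e => hvA (e ▸ one_mem _), fun e => hvA (e ▸ hSA _ hsS), hs2, hv2, hvs⟩
  set K := klein hsv with hK
  have hKs : s ∈ K := by simp [hK, mem_klein]
  have hKv : v ∈ K := by simp [hK, mem_klein]
  have hKP : ∀ k ∈ K, k ∈ P := fun k hk => by
    rcases mem_klein.1 hk with rfl | rfl | rfl | rfl
    exacts [one_mem _, hSP _ hsS, hvP, mul_mem (hSP _ hsS) hvP]
  have hact : ∀ k ∈ K, ∃ e : ℤ, Odd e ∧ k * X * k⁻¹ = X ^ e := by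
    have hzpow : z = X ^ ((2 ^ (m + 1 + 1) : ℕ) : ℤ) := by rw [zpow_natCast, ← hz', hzz]
    intro k hk
    rcases mem_klein.1 hk with rfl | rfl | rfl | rfl
    · exact ⟨1, odd_one, by simp⟩
    · refine ⟨-1 + ((2 ^ (m + 1 + 1) : ℕ) : ℤ), ⟨-1 + 2 ^ (m + 1), by push_cast; ring⟩, ?_⟩
      rw [hsX, zpow_add, zpow_neg_one, ← hzpow]
    · refine ⟨1 + ((2 ^ (m + 1 + 1) : ℕ) : ℤ), ⟨2 ^ (m + 1), by push_cast; ring⟩, ?_⟩
      rw [hvX, zpow_add, zpow_one, ← hzpow]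
    · refine ⟨-1, ⟨-1, by norm_num⟩, ?_⟩
      calc s * v * X * (s * v)⁻¹ = (s * X * s⁻¹) * (s * z * s⁻¹) := by
            rw [show s * v * X * (s * v)⁻¹ = s * (v * X * v⁻¹) * s⁻¹ by group, hvX]; group
        _ = X ^ (-1 : ℤ) := by
          rw [hsX, hzP s (hSP _ hsS), mul_inv_cancel_right, mul_assoc, sq_two h.z2, mul_one,
            zpow_neg_one]
  have hKi : ∀ k ∈ K, k⁻¹ = k := fun k hk => inv_self_of_sq ((klein_elementary hsv).2 k hk)
  have hswap : ∀ k ∈ K, ∀ i : ℤ, ∃ e : ℤ, Odd e ∧ X ^ i * k = k * X ^ (e * i) := by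
    intro k hk i
    obtain ⟨e, he, he'⟩ := hact k hk
    refine ⟨e, he, ?_⟩
    rw [← conj_zpow_eq he', mul_assoc k, hKi k hk, ← mul_assoc, ← mul_assoc,
      sq_two ((klein_elementary hsv).2 k hk), one_mul]
  let Q : Subgroup G :=
    { carrier := {g | ∃ k ∈ K, ∃ i : ℤ, g = k * X ^ (2 * i)}
      one_mem' := ⟨1, one_mem _, 0, by simp⟩
      mul_mem' := by
        rintro _ _ ⟨k, hk, i, rfl⟩ ⟨k', hk', j, rfl⟩
        obtain ⟨e, -, he⟩ := hswap k' hk' (2 * i)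
        refine ⟨k * k', mul_mem hk hk', e * i + j, ?_⟩
        rw [show 2 * (e * i + j) = e * (2 * i) + 2 * j by ring, zpow_add,
          show k * X ^ (2 * i) * (k' * X ^ (2 * j)) = k * (X ^ (2 * i) * k') * X ^ (2 * j) by group, he]
        group
      inv_mem' := by
        rintro _ ⟨k, hk, i, rfl⟩
        obtain ⟨e, -, he⟩ := hswap k hk (2 * -i)
        refine ⟨k, hk, e * -i, ?_⟩
        rw [mul_inv_rev, hKi k hk, ← zpow_neg, show -(2 * i) = 2 * -i by ring, he]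
        ring_nf }
  have hXQ : X ∉ Q := by
    rintro ⟨k, hk, i, hki⟩
    have hkR : k ∈ zpowers X := by
      rw [eq_mul_inv_of_mul_eq hki.symm]
      exact mul_mem (mem_zpowers X) (inv_mem (zpow_mem (mem_zpowers X) _))
    rcases mem_klein.1 hk with rfl | rfl | rfl | rfl
    · rw [one_mul] at hki
      conv_lhs at hki => rw [← zpow_one X]
      rw [zpow_eq_iff_dvd, hXo] at hki
      push_cast at hki
      obtain ⟨l, hl⟩ := hki
      rw [show (2 : ℤ) ^ (m + 1 + 2) * l = 2 * (2 ^ (m + 2) * l) by ring] at hl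
      generalize (2 : ℤ) ^ (m + 2) * l = R at hl
      omega
    · exact hsR hkR
    · exact hvA (hSA _ (hRS hkR))
    · exact hvA (by simpa using mul_mem (inv_mem (hSA _ hsS)) (hSA _ (hRS hkR)))
  have hX2Q : ∀ i : ℤ, X ^ (2 * i) ∈ Q := fun i => ⟨1, one_mem _, i, (one_mul _).symm⟩
  have hKQ : ∀ k ∈ K, k ∈ Q := fun k hk => ⟨k, hk, 0, by simp⟩
  have hform : ∀ g ∈ P, ∃ k ∈ K, ∃ i : ℤ, g = k * X ^ i := by
    have hS' : ∀ g ∈ S, ∃ k ∈ K, (k = 1 ∨ k = s) ∧ ∃ i : ℤ, g = k * X ^ i := by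
      intro g hg
      by_cases hgR : g ∈ zpowers X
      · obtain ⟨i, rfl⟩ := mem_zpowers_iff.mp hgR
        exact ⟨1, one_mem _, Or.inl rfl, i, (one_mul _).symm⟩
      · obtain ⟨i, hi⟩ := mem_zpowers_iff.mp (hRot.idx s hsS hsR g hg hgR)
        exact ⟨s, hKs, Or.inr rfl, i, by rw [hi, ← mul_assoc, sq_two hs2, one_mul]⟩
    intro g hg
    rcases h.coset g hg with hgA | hgA
    · obtain ⟨k, hk, -, hi⟩ := hS' g ((h.memS g).2 ⟨hgA, hg⟩)
      exact ⟨k, hk, hi⟩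
    · obtain ⟨k, hk, -, i, hi⟩ := hS' (w0⁻¹ * w⁻¹ * (t * g)) (mul_mem (mul_mem
        (inv_mem (hRS hw0R)) (inv_mem h.wS)) ((h.memS _).2 ⟨hgA, mul_mem h.tP hg⟩))
      refine ⟨v * k, mul_mem hKv hk, i, ?_⟩
      rw [mul_assoc, ← hi, hv]
      calc g = (t * t) * g := by rw [h.tt, one_mul]
        _ = _ := by group
  have hodd : ∀ k ∈ K, ∀ i : ℤ, k * X ^ i ∉ Q → Odd i := by
    intro k hk i hni
    by_contra hi
    obtain ⟨l, rfl⟩ := Int.not_odd_iff_even.1 hi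
    exact hni ⟨k, hk, l, by rw [two_mul]⟩
  have hidx : ∀ g ∈ P, g ∉ Q → ∀ g' ∈ P, g' ∉ Q → g * g' ∈ Q := by
    intro g hg hgQ g' hg' hgQ'
    obtain ⟨k, hk, i, rfl⟩ := hform g hg
    obtain ⟨k', hk', j, rfl⟩ := hform g' hg'
    obtain ⟨e, hee, he⟩ := hswap k' hk' i
    obtain ⟨l, hl⟩ := (hee.mul (hodd k hk i hgQ)).add_odd (hodd k' hk' j hgQ')
    refine ⟨k * k', mul_mem hk hk', l, ?_⟩
    rw [two_mul, ← hl, zpow_add, show k * X ^ i * (k' * X ^ j) = k * (X ^ i * k') * X ^ j by group,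
      he]
    group
  have htQ : t ∉ Q := by
    intro e
    apply hXQ
    have hw0Q : w0 ∈ Q := by
      rw [hw0, ← zpow_natCast, pow_succ' 2 m]; push_cast; exact hX2Q _
    have h1 := mul_mem (mul_mem (mul_mem (mul_mem (inv_mem hw0Q) hw0Q) (inv_mem (hKQ v hKv))) e)
      (inv_mem (one_mem Q))
    have h2 : w⁻¹ ∈ Q := by
      have := mul_mem (mul_mem hw0Q (inv_mem (hKQ v hKv))) e
      rwa [hv, show w0 * (t * w * w0)⁻¹ * t = w⁻¹ by group] at this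
    have := mul_mem h2 (hKQ s hKs)
    rwa [hs, inv_mul_cancel_left] at this
  have hkOut : ∀ g ∈ P, g ^ 2 = 1 → g ∉ A → ∀ k ∈ K, ∀ i : ℤ, g = k * X ^ i →
      (k = v ∨ k = s * v) ∧ (Odd i → k = s * v) := by
    intro g _ hg2 hgA k hk i hgki
    rcases mem_klein.1 hk with rfl | rfl | rfl | rfl
    · exact absurd (hgki ▸ mul_mem (one_mem A) (hSA _ (zpow_mem hXS i))) hgA
    · exact absurd (hgki ▸ mul_mem (hSA _ hsS) (hSA _ (zpow_mem hXS i))) hgA
    · refine ⟨Or.inl rfl, fun hio => ?_⟩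
      exfalso
      obtain ⟨l, rfl⟩ := hio
      have h1 : v * X ^ (2 * l + 1) * v⁻¹ = X ^ (2 * l + 1) * z := by
        rw [← conj_zpow, hvX, (show Commute X z from hzX.symm).mul_zpow, zpow_add z, zpow_mul z,
          show z ^ (2 : ℤ) = 1 by exact_mod_cast h.z2, one_zpow, one_mul, zpow_one]
      have h2 : X ^ (2 * (2 * l + 1)) = z := by
        rw [hgki, pow_two] at hg2
        have : X ^ (2 * l + 1) * z * X ^ (2 * l + 1) = 1 := by
          rw [← h1, inv_self_of_sq hv2, ← hg2]; group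
        have hc : z * X ^ (2 * l + 1) = X ^ (2 * l + 1) * z :=
          (show Commute z X from hzX).zpow_right _
        rw [mul_assoc, hc, ← mul_assoc, ← zpow_add] at this
        rw [two_mul, eq_inv_of_mul_eq_one_left this, hzi]
      have h3 : X ^ (2 * (2 * l + 1) * 2) = 1 := by
        rw [zpow_mul, h2]; exact_mod_cast h.z2
      rw [← orderOf_dvd_iff_zpow_eq_one, hXo] at h3
      push_cast at h3
      obtain ⟨q, hq⟩ := h3
      rw [show (2 : ℤ) ^ (m + 1 + 2) * q = 8 * (2 ^ m * q) by ring] at hq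
      generalize (2 : ℤ) ^ m * q = R at hq
      omega
    · exact ⟨Or.inr rfl, fun _ => rfl⟩
  -- involutions in `Q` outside `A` centralize a four group of `A`
  have hbad : ∀ g ∈ P, g ^ 2 = 1 → g ∉ A → g ∈ Q →
      ∃ a ∈ A, ∃ b ∈ A, Four a b ∧ g * a = a * g ∧ g * b = b * g := by
    rintro g hgP hg2 hgA ⟨k, hk, l, hgl⟩
    have hX2 : Commute v (X ^ (2 * l)) := by
      apply mul_inv_eq_iff_eq_mul.1
      rw [← conj_zpow, hvX, (show Commute X z from hzX.symm).mul_zpow, zpow_mul z,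
        show z ^ (2 : ℤ) = 1 by exact_mod_cast h.z2, one_zpow, mul_one]
    have hsX2 : s * X ^ (2 * l) * s⁻¹ = (X ^ (2 * l))⁻¹ := by
      rw [← conj_zpow, hsX, (show Commute X z from hzX.symm).inv_left.mul_zpow, inv_zpow, zpow_mul z,
        show z ^ (2 : ℤ) = 1 by exact_mod_cast h.z2, one_zpow, mul_one]
    have mk : ∀ b ∈ S, b ∉ zpowers X → b ^ 2 = 1 → g * b = b * g →
        ∃ a ∈ A, ∃ b ∈ A, Four a b ∧ g * a = a * g ∧ g * b = b * g := fun b hb hbR hb2 hc =>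
      ⟨z, hSA _ h.zS, b, hSA _ hb, ⟨h.z1, fun e => hbR (e ▸ one_mem _),
        fun e => hbR (e ▸ hzz ▸ pow_mem (mem_zpowers X) _), h.z2, hb2, (hzP b (hSP _ hb)).symm⟩,
        hzP g hgP, hc⟩
    rcases (hkOut g hgP hg2 hgA k hk (2 * l) hgl).1 with rfl | rfl
    · refine mk s hsS hsR hs2 ?_
      have h4 : (X ^ (2 * l)) ^ 2 = 1 := by
        rw [hgl, hX2.mul_pow, hv2, one_mul] at hg2; exact hg2
      rw [inv_self_of_sq h4] at hsX2
      rw [hgl]
      exact ((show Commute v s from hvs.symm).mul_left (mul_inv_eq_iff_eq_mul.1 hsX2).symm).eq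
    · refine mk (s * X ^ (2 * l)) (mul_mem hsS (zpow_mem hXS _))
        (fun e => hsR ((mul_mem_cancel_right (zpow_mem (mem_zpowers X) _)).1 e)) ?_ ?_
      · calc (s * X ^ (2 * l)) ^ 2 = (s * X ^ (2 * l) * s⁻¹) * (s ^ 2) * X ^ (2 * l) := by
              rw [pow_two, pow_two]; group
          _ = 1 := by rw [hsX2, hs2, mul_one, inv_mul_cancel]
      · rw [hgl, hvs, mul_assoc v s]
        exact ((show Commute v (s * X ^ (2 * l)) from
          (show Commute v s from hvs.symm).mul_right hX2).mul_left (Commute.refl _)).eq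
  have htbad : ¬ ∃ a ∈ A, ∃ b ∈ A, Four a b ∧ t * a = a * t ∧ t * b = b * t :=
    fun ⟨c, hc, d, hd, hcd, h1, h2⟩ => h.small c hc d hd hcd h1 h2
  have hgood : ∀ g ∈ P, g ^ 2 = 1 → g ∉ A → g ∉ Q →
      ¬ ∃ a ∈ A, ∃ b ∈ A, Four a b ∧ g * a = a * g ∧ g * b = b * g := by
    intro g hgP hg2 hgA hgQ hex
    obtain ⟨k, hk, i, hgi⟩ := hform g hgP
    obtain ⟨k', hk', j, htj⟩ := hform t h.tP
    have hio := hodd k hk i (hgi ▸ hgQ)
    have hjo := hodd k' hk' j (htj ▸ htQ)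
    have hk1 := (hkOut g hgP hg2 hgA k hk i hgi).2 hio
    have hk2 := (hkOut t h.tP h.t2 h.tA k' hk' j htj).2 hjo
    obtain ⟨l, hl⟩ := hio.sub_odd hjo
    have hl' : g = t * X ^ (l + l) := by
      rw [← hl, htj, hk2, hgi, hk1, mul_assoc (s * v), ← zpow_add]; ring_nf
    refine htbad (h.centralizes_conj (zpow_mem (mem_sup_left (hSA X hXS)) l) ?_ hex)
    rw [hl', zpow_add, ← mul_assoc t]
    have h1 : X ^ l * t = t * (X ^ l)⁻¹ := by
      have : t * (X ^ l)⁻¹ * t⁻¹ = X ^ l := by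
        rw [← zpow_neg, ← conj_zpow, htX, inv_zpow', neg_neg]
      calc X ^ l * t = t * (X ^ l)⁻¹ * t⁻¹ * t := by rw [this]
        _ = _ := by group
    rw [← mul_assoc (X ^ l), ← mul_assoc (X ^ l), h1]; group
  exact h.transfer_false Q (hSP X hXS) hXQ hidx htQ hvP hv2 (fun e => hvA (e ▸ one_mem A)) hvA
    (hKQ v hKv) hbad hgood (by
      rw [hv, ← mul_assoc, ← mul_assoc, h.tt, one_mul]
      exact mul_mem (hSA _ h.wS) (hSA _ (hRS hw0R)))

end Cfsg.CyclicFourFixed1914
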