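import Cfsg.Agent.CyclicFourFixed1914.CaseI

/-!
# A normal four group: setting up the abelian subgroup of index at most two
-/

namespace Cfsg.CyclicFourFixed1914

open Subgroup Cfsg.Agent.PGroupsCyclic Cfsg.Agent.PGroupsBasic Cfsg.FourGroupRank1915

variable {G : Type*} [Group G] [Finite G]

set_option maxHeartbeats 800000
set_option linter.unusedSectionVars false

/-- A four group `⟨z, e⟩` normal in `P`. -/
structure FourSetting (A P S : Subgroup G) (t w z e : G) : Prop extends Setting A P S t w z where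
  eS : e ∈ S
  four : Four z e
  zP : ∀ p ∈ P, p * z = z * p
  ecls : ∀ p ∈ P, p * e * p⁻¹ = e ∨ p * e * p⁻¹ = e * z

namespace FourSetting

variable {A P S : Subgroup G} {t w z e : G}

theorem memA (h : FourSetting A P S t w z e) {g : G} (hg : g ∈ S) : g ∈ A := ((h.memS g).1 hg).1

theorem memP (h : FourSetting A P S t w z e) {g : G} (hg : g ∈ S) : g ∈ P := ((h.memS g).1 hg).2

theorem e2 (h : FourSetting A P S t w z e) : e ^ 2 = 1 := h.four.2.2.2.2.1

theorem ez (h : FourSetting A P S t w z e) : e * z = z * e := (h.four.2.2.2.2.2).symm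

theorem te (h : FourSetting A P S t w z e) : t * e * t = e * z := by
  have h1 := (h.ecls t h.tP)
  rw [h.tinv] at h1
  refine h1.resolve_left fun h2 => h.small z (h.memA h.zS) e (h.memA h.eS) h.four h.tz ?_
  calc t * e = t * e * t * t := by rw [mul_assoc (t * e), h.tt, mul_one]
    _ = e * t := by rw [h2]

/-- The four group. -/
abbrev E (h : FourSetting A P S t w z e) : Subgroup G := klein h.four

theorem mem_E (h : FourSetting A P S t w z e) {x : G} :
    x ∈ h.E ↔ x = 1 ∨ x = z ∨ x = e ∨ x = z * e := mem_klein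

theorem zE (h : FourSetting A P S t w z e) : z ∈ h.E := by simp [mem_klein]

theorem eE (h : FourSetting A P S t w z e) : e ∈ h.E := by simp [mem_klein]

theorem E_le (h : FourSetting A P S t w z e) : h.E ≤ S := fun x hx => by
  rcases h.mem_E.1 hx with rfl | rfl | rfl | rfl
  exacts [one_mem _, h.zS, h.eS, mul_mem h.zS h.eS]

theorem E_sq (h : FourSetting A P S t w z e) {x : G} (hx : x ∈ h.E) : x ^ 2 = 1 :=
  (klein_elementary h.four).2 x hx

theorem E_conj (h : FourSetting A P S t w z e) {p x : G} (hp : p ∈ P) (hx : x ∈ h.E) :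
    p * x * p⁻¹ ∈ h.E := by
  have hz : p * z * p⁻¹ = z := by rw [h.zP p hp, mul_inv_cancel_right]
  have he : p * e * p⁻¹ ∈ h.E := by
    rcases h.ecls p hp with e1 | e1 <;> rw [e1]
    · exact h.eE
    · exact mul_mem h.eE h.zE
  rcases h.mem_E.1 hx with rfl | rfl | rfl | rfl
  · simp
  · rw [hz]; exact h.zE
  · exact he
  · rw [show p * (z * e) * p⁻¹ = p * z * p⁻¹ * (p * e * p⁻¹) by group, hz]
    exact mul_mem h.zE he

theorem E_tconj (h : FourSetting A P S t w z e) {x : G} (hx : x ∈ h.E) : t * x * t ∈ h.E := by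
  simpa [h.tinv] using h.E_conj h.tP hx

/-- Fixed elements of the four group. -/
theorem E_fixed (h : FourSetting A P S t w z e) {x : G} (hx : x ∈ h.E) (hxt : t * x * t = x) :
    x = 1 ∨ x = z := by
  refine h.fixed_inv (h.E_le hx) ?_ (h.E_sq hx)
  calc t * x = t * x * t * t := by rw [mul_assoc (t * x), h.tt, mul_one]
    _ = x * t := by rw [hxt]

theorem w_notE (h : FourSetting A P S t w z e) : w ∉ h.E := fun hw =>
  h.z1 (h.w2 ▸ h.E_sq hw)

/-- Elements moved inside their coset of the four group. -/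
theorem lift (h : FourSetting A P S t w z e) {x : G} (hx : x ∈ S)
    (hε : x⁻¹ * (t * x * t) ∈ h.E) : x ∈ h.E ∨ x * w⁻¹ ∈ h.E := by
  have hfix : ∀ y ∈ S, t * y * t = y → y ∈ h.E ∨ y * w⁻¹ ∈ h.E := by
    intro y hy hyt
    obtain ⟨i, rfl⟩ := mem_zpowers_iff.mp (h.fixed y hy (by
      calc t * y = t * y * t * t := by rw [mul_assoc (t * y), h.tt, mul_one]
        _ = y * t := by rw [hyt]))
    rcases Int.even_or_odd i with ⟨k, rfl⟩ | ⟨k, rfl⟩
    · left
      rw [← two_mul, zpow_mul, show w ^ (2 : ℤ) = z by exact_mod_cast h.w2]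
      exact zpow_mem h.zE _
    · right
      rw [zpow_add_one, mul_inv_cancel_right, zpow_mul, show w ^ (2 : ℤ) = z by exact_mod_cast h.w2]
      exact zpow_mem h.zE _
  have hεfix : t * (x⁻¹ * (t * x * t)) * t = x⁻¹ * (t * x * t) := by
    have h1 := inv_self_of_sq (h.E_sq hε)
    conv_rhs => rw [← h1]
    rw [mul_inv_rev, mul_inv_rev, mul_inv_rev, inv_inv, h.tinv]
    calc t * (x⁻¹ * (t * x * t)) * t = t * (x⁻¹ * t) * x * (t * t) := by group
      _ = _ := by rw [h.tt, mul_one]
  rcases h.E_fixed hε hεfix with h1 | h1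
  · exact hfix x hx (inv_mul_eq_one.mp h1).symm
  · have htx : t * x * t = x * z := by rw [← h1, mul_inv_cancel_left]
    have := hfix (x * e) (mul_mem hx h.eS) (by
      calc t * (x * e) * t = (t * x * t) * (t * e * t) := by
            rw [show t * x * t * (t * e * t) = t * x * (t * t) * e * t by group, h.tt, mul_one]
            group
        _ = x * e := by
          rw [htx, h.te, h.ez, ← mul_assoc, mul_assoc x z z, sq_two h.z2, mul_one])
    rcases this with h2 | h2
    · exact Or.inl ((mul_mem_cancel_right h.eE).1 h2)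
    · right
      have h3 : w * e * w⁻¹ ∈ h.E := h.E_conj (h.memP h.wS) h.eE
      rw [show x * e * w⁻¹ = x * w⁻¹ * (w * e * w⁻¹) by group] at h2
      exact (mul_mem_cancel_right h3).1 h2

/-- If `w` moves `e`, then an element outside `A` centralizes a four group and has square `z`. -/
theorem not_moved (h : FourSetting A P S t w z e) (hwe : w * e ≠ e * w) : False := by
  have : Fact (Nat.Prime 2) := ⟨Nat.prime_two⟩
  have hwe' : w * e * w⁻¹ = e * z :=
    (h.ecls w (h.memP h.wS)).resolve_left fun e1 => hwe (mul_inv_eq_iff_eq_mul.1 e1)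
  have hwE : ∀ x, x * e = e * x → x * w⁻¹ ∈ h.E → False := by
    intro x hx hxw
    apply hwe
    have h1 : Commute (x * w⁻¹) e := comm_of_isMulCommutative (klein_elementary h.four).1 hxw h.eE
    have := (h1.inv_left.mul_left (show Commute x e from hx)).eq
    simpa using this
  let K : Subgroup G := S ⊓ centralizer ({e} : Set G)
  have hKE : ∀ x ∈ S, x * e = e * x → x ∈ h.E := by
    by_contra hno
    push Not at hno
    obtain ⟨x₀, hx₀S, hx₀e, hx₀E⟩ := hno
    have hEK : h.E ≤ K := fun x hx => mem_inf.mpr ⟨h.E_le hx,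
      mem_centralizer_singleton_iff.mpr
        (comm_of_isMulCommutative (klein_elementary h.four).1 hx h.eE)⟩
    haveI : (h.E.subgroupOf P).Normal := ⟨fun g hg p => h.E_conj p.2 hg⟩
    haveI : (K.subgroupOf P).Normal := ⟨fun g hg p => by
      simp only [mem_subgroupOf, K, mem_inf, mem_centralizer_singleton_iff, Subgroup.coe_mul,
        InvMemClass.coe_inv] at hg ⊢
      refine ⟨(h.memS _).2 ⟨h.tN _ ?_ _ (h.memA hg.1), mul_mem (mul_mem p.2 g.2) (inv_mem p.2)⟩, ?_⟩
      · rcases h.coset p p.2 with e1 | e1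
        · exact mem_sup_left e1
        · simpa using mul_mem (inv_mem (mem_sup_right (mem_zpowers t) : t ∈ A ⊔ zpowers t))
            (mem_sup_left e1 : t * (p : G) ∈ A ⊔ zpowers t)
      · have hcg : Commute (g : G) e := hg.2
        have hp' : (p : G)⁻¹ * e * (p : G) = e ∨ (p : G)⁻¹ * e * (p : G) = e * z := by
          simpa using h.ecls _ (inv_mem p.2)
        have hc : Commute (g : G) ((p : G)⁻¹ * e * (p : G)) := by
          rcases hp' with e1 | e1 <;> rw [e1]
          · exact hcg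
          · exact hcg.mul_right (h.zP g g.2)
        calc (p : G) * g * (p : G)⁻¹ * e = p * (g * ((p : G)⁻¹ * e * p)) * (p : G)⁻¹ := by group
          _ = p * (((p : G)⁻¹ * e * p) * g) * (p : G)⁻¹ := by rw [hc.eq]
          _ = _ := by group⟩
    have hKP : K ≤ P := fun x hx => h.memP hx.1
    have hle : h.E.subgroupOf P ≤ K.subgroupOf P := fun g hg => hEK hg
    have hlt : Nat.card (h.E.subgroupOf P) * 2 ^ 1 ≤ Nat.card (K.subgroupOf P) := by
      have hdvd : Nat.card (h.E.subgroupOf P) ∣ Nat.card (K.subgroupOf P) :=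
        Subgroup.card_dvd_of_le (fun g hg => hEK hg)
      obtain ⟨k, hk⟩ := hdvd
      have hpos : 0 < Nat.card (K.subgroupOf P) := Nat.card_pos
      rcases k with _ | _ | k
      · simp [hk] at hpos
      · exfalso
        apply hx₀E
        have heq := eq_of_le_of_card_ge hle (by rw [hk]; simp)
        have hmem : (⟨x₀, h.memP hx₀S⟩ : P) ∈ K.subgroupOf P :=
          mem_inf.mpr ⟨hx₀S, mem_centralizer_singleton_iff.mpr hx₀e⟩
        rw [← heq] at hmem
        exact hmem
      · rw [hk, pow_one]; exact Nat.mul_le_mul_left _ (by omega)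
    obtain ⟨L, hLn, hEL, hLK, hLc⟩ := exists_normal_card h.two hle 1 hlt
    have hidx : ((h.E.subgroupOf P).subgroupOf L).index = 2 := by
      have h1 := card_mul_index ((h.E.subgroupOf P).subgroupOf L)
      rw [Nat.card_congr (subgroupOfEquivOfLe hEL).toEquiv, hLc, pow_one] at h1
      exact Nat.eq_of_mul_eq_mul_left Nat.card_pos h1
    obtain ⟨x, hxL, hxE⟩ : ∃ x ∈ L, x ∉ h.E.subgroupOf P := by
      by_contra hall
      push Not at hall
      have := Nat.card_le_card_of_injective (Subgroup.inclusion (hall : L ≤ _))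
        (Subgroup.inclusion_injective _)
      rw [hLc] at this
      have hpos : 0 < Nat.card (h.E.subgroupOf P) := Nat.card_pos
      omega
    have htxL := hLn.conj_mem x hxL ⟨t, h.tP⟩
    have htxE : (⟨t, h.tP⟩ * x * ⟨t, h.tP⟩⁻¹ : P) ∉ h.E.subgroupOf P := by
      intro e1
      have := (inferInstance : (h.E.subgroupOf P).Normal).conj_mem _ e1 (⟨t, h.tP⟩⁻¹)
      exact hxE (by simpa [mul_assoc] using this)
    have hprod : x⁻¹ * (⟨t, h.tP⟩ * x * ⟨t, h.tP⟩⁻¹) ∈ h.E.subgroupOf P := by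
      have := (mul_mem_iff_of_index_two hidx (a := ⟨x, hxL⟩⁻¹)
        (b := ⟨_, htxL⟩)).2 (iff_of_false (fun e1 => hxE (inv_mem_iff.1 e1)) htxE)
      exact this
    have hxK : (x : G) ∈ K := hLK hxL
    rcases h.lift (x := (x : G)) hxK.1 (by simpa [mem_subgroupOf, h.tinv] using hprod) with e1 | e1
    · exact hxE e1
    · exact hwE _ (mem_centralizer_singleton_iff.mp hxK.2) e1
  have hSE : ∀ x ∈ S, x ∈ h.E ∨ w⁻¹ * x ∈ h.E := by
    intro x hx
    rcases h.ecls x (h.memP hx) with e1 | e1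
    · exact Or.inl (hKE x hx (mul_inv_eq_iff_eq_mul.1 e1))
    · refine Or.inr (hKE _ (mul_mem (inv_mem h.wS) hx) ?_)
      apply mul_inv_eq_iff_eq_mul.1
      calc w⁻¹ * x * e * (w⁻¹ * x)⁻¹ = w⁻¹ * (x * e * x⁻¹) * w := by group
        _ = w⁻¹ * (w * e * w⁻¹) * w := by rw [e1, hwe']
        _ = e := by group
  have hzw : z ∈ zpowers w := h.w2 ▸ pow_mem (mem_zpowers w) 2
  have heW : e ∉ zpowers w := fun e1 => hwe (comm_of_isMulCommutative
    (inferInstance : IsMulCommutative (zpowers w)) (mem_zpowers w) e1)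
  have hout : ∀ g ∈ S, g ∉ zpowers w → ∃ u ∈ zpowers w, g = u * e := by
    intro g hg hgn
    have key : ∀ v ∈ zpowers w, ∀ ε ∈ h.E, g = v * ε → ∃ u ∈ zpowers w, g = u * e := by
      intro v hv ε hε hgv
      rcases h.mem_E.1 hε with rfl | rfl | rfl | rfl
      · exact absurd (by rw [hgv, mul_one]; exact hv) hgn
      · exact absurd (by rw [hgv]; exact mul_mem hv hzw) hgn
      · exact ⟨v, hv, hgv⟩
      · exact ⟨v * z, mul_mem hv hzw, by rw [hgv, mul_assoc]⟩
    rcases hSE g hg with e1 | e1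
    · exact key 1 (one_mem _) g e1 (one_mul g).symm
    · exact key w (mem_zpowers w) _ e1 (by group)
  have hew : e * w * e⁻¹ = w⁻¹ := by
    have h1 : e * w * e⁻¹ = w * z := by
      calc e * w * e⁻¹ = (w * e * w⁻¹ * e⁻¹)⁻¹ * w := by group
        _ = (e * z * e⁻¹)⁻¹ * w := by rw [hwe']
        _ = _ := by
          rw [h.ez, mul_inv_cancel_right, inv_self_of_sq h.z2, h.zP w (h.memP h.wS)]
    rw [h1]
    apply eq_inv_of_mul_eq_one_left
    rw [mul_assoc, ← h.zP w (h.memP h.wS), ← mul_assoc, ← pow_two, h.w2, sq_two h.z2]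
  have hRot : Rot S w 0 := by
    refine ⟨h.wS, h.w4, fun g hg hgn g' hg' hgn' => ?_, fun g hg hgn => ?_⟩
    · obtain ⟨u, hu, rfl⟩ := hout g hg hgn
      obtain ⟨u', hu', rfl⟩ := hout g' hg' hgn'
      obtain ⟨i, rfl⟩ := mem_zpowers_iff.mp hu'
      rw [show u * e * (w ^ i * e) = u * (e * w ^ i * e⁻¹) * e ^ 2 by rw [pow_two]; group, h.e2,
        mul_one, ← conj_zpow, hew]
      exact mul_mem hu (zpow_mem (inv_mem (mem_zpowers w)) _)
    · obtain ⟨u, hu, rfl⟩ := hout g hg hgn
      obtain ⟨i, rfl⟩ := mem_zpowers_iff.mp hu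
      refine ⟨-1, ?_, by norm_num⟩
      rw [show w ^ i * e * w * (w ^ i * e)⁻¹ = w ^ i * (e * w * e⁻¹) * (w ^ i)⁻¹ by group, hew,
        zpow_neg_one, ((Commute.refl w).zpow_left i).inv_right.eq, mul_inv_cancel_right]
  have hz' : w ^ (2 ^ (0 + 1)) = z := by rw [zero_add, pow_one]; exact h.w2
  refine hRot.twist_false h.frame h.eS heW h.e2 (xx := t * w)
    (fun p hp => by rw [hz']; exact h.zP p (h.memP hp))
    (h.tN _ (mul_mem (mem_sup_right (mem_zpowers t)) (mem_sup_left (h.memA h.wS)))) ?_ ?_ ?_ ?_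
  · exact fun e1 => h.tA (by simpa using mul_mem e1 (inv_mem (h.memA h.wS)))
  · rw [hz']; exact h.zP _ (mul_mem h.tP (h.memP h.wS))
  · apply mul_inv_eq_iff_eq_mul.1
    calc t * w * e * (t * w)⁻¹ = t * (w * e * w⁻¹) * t⁻¹ := by group
      _ = t * e * t * (t * z * t) := by
        rw [hwe', h.tinv, show t * e * t * (t * z * t) = t * e * (t * t) * z * t by group, h.tt,
          mul_one]
        group
      _ = e := by
        rw [h.te, h.tz, mul_assoc z t t, h.tt, mul_one, mul_assoc, sq_two h.z2, mul_one]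
  · rw [hz', (show Commute t w from h.wt).mul_pow, h.t2, h.w2, one_mul]

end FourSetting

/-- An abelian subgroup of index at most two in `S`, inverted by `t` modulo the four group. -/
structure Half (A P S : Subgroup G) (t w z e : G) (L : Subgroup G) : Prop
    extends FourSetting A P S t w z e where
  leS : L ≤ S
  eL : e ∈ L
  wL : w ∈ L
  commE : ∀ x ∈ L, x * e = e * x
  idx : ∀ g ∈ S, g ∉ L → ∀ g' ∈ S, g' ∉ L → g * g' ∈ L
  tL : ∀ x ∈ L, t * x * t ∈ L
  inverted : ∀ x ∈ L, t * x * t * x = 1 ∨ t * x * t * x = z ∨ t * x * t * x = e ∨ t * x * t * x = z * e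

theorem FourSetting.inverted_of_proper {A P S : Subgroup G} {t w z e : G}
    (h : FourSetting A P S t w z e) (hwe : w * e = e * w) (L : Subgroup G) (hEL : h.E ≤ L)
    (hLS : L ≤ S) (hidx : ∀ g ∈ S, g ∉ L → ∀ g' ∈ S, g' ∉ L → g * g' ∈ L)
    (htL : ∀ x ∈ L, t * x * t ∈ L) {g₀ : G} (hg₀ : g₀ ∈ S) (hg₀L : g₀ ∉ L) :
    (∀ x ∈ L, t * x * t * x ∈ h.E) ∧ ((∃ x ∈ L, x ∉ h.E) → w ∈ L) := by
  have : Fact (Nat.Prime 2) := ⟨Nat.prime_two⟩
  let E' : Subgroup S := h.E.subgroupOf S
  haveI hE'n : E'.Normal := ⟨fun g hg p => h.E_conj (h.memP p.2) hg⟩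
  let θ : S →* S :=
    { toFun := fun x => ⟨t * x * t, h.conjS x.2⟩
      map_one' := by ext; simp [h.tt]
      map_mul' := fun x y => by
        ext
        show t * (x * y : G) * t = t * x * t * (t * y * t)
        rw [show t * (x : G) * t * (t * y * t) = t * x * (t * t) * y * t by group, h.tt, mul_one]
        group }
  let τ : S ⧸ E' →* S ⧸ E' := QuotientGroup.map E' E' θ (fun x hx => h.E_tconj hx)
  have hτ : ∀ x : S, τ (QuotientGroup.mk x) = QuotientGroup.mk (θ x) := fun x => rfl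
  have hττ : ∀ a, τ (τ a) = a := by
    intro a
    induction a using QuotientGroup.induction_on with
    | H x =>
      rw [hτ, hτ]
      congr 1
      ext
      show t * (t * x * t) * t = (x : G)
      rw [show t * (t * (x : G) * t) * t = (t * t) * x * (t * t) by group, h.tt, one_mul, mul_one]
  set wb : S ⧸ E' := QuotientGroup.mk ⟨w, h.wS⟩ with hwb
  have hfix : ∀ a, τ a = a → a = 1 ∨ a = wb := by
    intro a ha
    induction a using QuotientGroup.induction_on with
    | H x =>
      rw [hτ] at ha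
      have h1' : x⁻¹ * θ x ∈ E' := QuotientGroup.eq.mp ha.symm
      have h1 : (x : G)⁻¹ * (t * x * t) ∈ h.E := h1' 
      rcases h.lift x.2 h1 with e1 | e1
      · exact Or.inl ((QuotientGroup.eq_one_iff x).mpr e1)
      · refine Or.inr (QuotientGroup.eq.mpr ?_)
        show (x : G)⁻¹ * w ∈ h.E
        have h2 := h.E_conj (inv_mem (h.memP h.wS)) (inv_mem e1)
        rwa [mul_inv_rev, inv_inv, show w⁻¹ * (w * (x : G)⁻¹) * w = (x : G)⁻¹ * w by group] at h2
  let L' : Subgroup S := L.subgroupOf S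
  have hL'2 : L'.index = 2 := by
    rw [index_eq_two_iff]
    refine ⟨⟨g₀, hg₀⟩, fun b => ?_⟩
    by_cases hb : (b : G) ∈ L
    · exact Or.inr ⟨hb, fun e1 => hg₀L ((mul_mem_cancel_left hb).1 e1)⟩
    · exact Or.inl ⟨hidx b b.2 hb g₀ hg₀ hg₀L, hb⟩
  let Lb : Subgroup (S ⧸ E') := L'.map (QuotientGroup.mk' E')
  have hLb2 : Lb.index = 2 := by
    rw [index_map_eq _ (QuotientGroup.mk'_surjective E') (by
      rw [QuotientGroup.ker_mk']; exact fun x hx => hEL hx), hL'2]
  have hmemLb : ∀ x : S, (QuotientGroup.mk x : S ⧸ E') ∈ Lb ↔ (x : G) ∈ L := by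
    intro x
    constructor
    · rintro ⟨y, hy, hxy⟩
      have h1' : y⁻¹ * x ∈ E' := QuotientGroup.eq.mp hxy
      have h1 : (y : G)⁻¹ * x ∈ h.E := h1' 
      have hy' : (y : G) ∈ L := hy
      simpa using mul_mem hy' (hEL h1)
    · exact fun hx => ⟨x, hx, rfl⟩
  let Φ : S ⧸ E' → S ⧸ E' := fun a => a⁻¹ * τ a
  have hΦL : ∀ a, Φ a ∈ Lb := by
    intro a
    induction a using QuotientGroup.induction_on with
    | H x =>
      show (QuotientGroup.mk x)⁻¹ * τ (QuotientGroup.mk x) ∈ Lb
      rw [hτ, ← QuotientGroup.mk_inv, ← QuotientGroup.mk_mul, hmemLb]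
      show (x : G)⁻¹ * (t * x * t) ∈ L
      by_cases hx : (x : G) ∈ L
      · exact mul_mem (inv_mem hx) (htL _ hx)
      · refine hidx _ (inv_mem x.2) (fun e1 => hx (inv_mem_iff.1 e1)) _ (h.conjS x.2) fun e1 => hx ?_
        have := htL _ e1
        rwa [show t * (t * (x : G) * t) * t = (t * t) * x * (t * t) by group, h.tt, one_mul,
          mul_one] at this
  have hfib : ∀ a b, Φ a = Φ b → a = b ∨ a = wb * b := by
    intro a b hab
    have h1 : τ (a * b⁻¹) = a * b⁻¹ := by
      rw [map_mul, map_inv]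
      calc τ a * (τ b)⁻¹ = a * (Φ a) * (b * Φ b)⁻¹ := by simp [Φ]
        _ = a * b⁻¹ := by rw [hab]; group
    rcases hfix _ h1 with e1 | e1
    · exact Or.inl (mul_inv_eq_one.1 e1)
    · exact Or.inr (mul_inv_eq_iff_eq_mul.1 e1)
  have hsurj : ∀ a ∈ Lb, ∃ b, Φ b = a := by
    classical
    intro a ha
    by_contra hno
    push Not at hno
    let sec : Lb → S ⧸ E' := fun c => if hc : ∃ b, Φ b = c then hc.choose else 1
    have hinj : Function.Injective
        (fun b : S ⧸ E' => ((⟨Φ b, hΦL b⟩ : Lb), decide (b = sec ⟨Φ b, hΦL b⟩))) := by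
      intro b b' hbb
      simp only [Prod.mk.injEq] at hbb
      obtain ⟨h1, h2⟩ := hbb
      have h1' : Φ b = Φ b' := congrArg Subtype.val h1
      rw [h1] at h2
      have hs : Φ (sec ⟨Φ b', hΦL b'⟩) = Φ b' := by
        simp only [sec]
        rw [dif_pos ⟨b', rfl⟩]
        exact (⟨b', rfl⟩ : ∃ c, Φ c = Φ b').choose_spec
      by_cases hb : b = sec ⟨Φ b', hΦL b'⟩
      · rw [decide_eq_true hb, eq_comm, decide_eq_true_iff] at h2
        exact hb.trans h2.symm
      · rw [decide_eq_false hb, eq_comm, decide_eq_false_iff_not] at h2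
        rcases hfib b _ (h1'.trans hs.symm) with e1 | e1
        · exact absurd e1 hb
        rcases hfib b' _ hs.symm with e2 | e2
        · exact absurd e2 h2
        · exact e1.trans e2.symm
    have hns : ¬ Function.Surjective
        (fun b : S ⧸ E' => ((⟨Φ b, hΦL b⟩ : Lb), decide (b = sec ⟨Φ b, hΦL b⟩))) := by
      intro hs
      obtain ⟨b, hb⟩ := hs (⟨a, ha⟩, true)
      simp only [Prod.mk.injEq] at hb
      exact hno b (congrArg Subtype.val hb.1)
    apply hns
    refine ((Nat.bijective_iff_injective_and_card _).2 ⟨hinj, ?_⟩).2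
    rw [Nat.card_prod, ← card_mul_index Lb, hLb2]
    simp
  have hinv : ∀ a ∈ Lb, τ a * a = 1 := by
    intro a ha
    obtain ⟨b, rfl⟩ := hsurj a ha
    show τ (b⁻¹ * τ b) * (b⁻¹ * τ b) = 1
    rw [map_mul, map_inv, hττ]
    group
  refine ⟨fun x hx => ?_, ?_⟩
  · have h1 := hinv _ ((hmemLb ⟨x, hLS hx⟩).2 hx)
    rw [hτ, ← QuotientGroup.mk_mul, QuotientGroup.eq_one_iff] at h1
    exact h1
  · rintro ⟨x, hxL, hxE⟩
    have hne : Lb ≠ ⊥ := fun e1 => hxE ((QuotientGroup.eq_one_iff (⟨x, hLS hxL⟩ : S)).mp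
      (mem_bot.mp (e1 ▸ (hmemLb _).2 hxL)))
    obtain ⟨a, haL, ha⟩ := exists_orderOf_eq_of_ne_bot (p := 2)
      ((h.frame.two.to_quotient E').to_subgroup Lb) hne
    have h2 : a * a = 1 := by rw [← pow_two, ← ha, pow_orderOf_eq_one]
    have h3 : τ a = a := by
      rw [eq_inv_of_mul_eq_one_left (hinv a haL)]
      exact inv_eq_of_mul_eq_one_left h2
    rcases hfix a h3 with e1 | e1
    · rw [e1, orderOf_one] at ha; omega
    · rw [e1] at haL; exact (hmemLb ⟨w, h.wS⟩).1 haL

theorem FourSetting.exists_half {A P S : Subgroup G} {t w z e : G}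
    (h : FourSetting A P S t w z e) (hwe : w * e = e * w) :
    ∃ L, Half A P S t w z e L := by
  have : Fact (Nat.Prime 2) := ⟨Nat.prime_two⟩
  have mk : ∀ L : Subgroup G, L ≤ S → h.E ≤ L → w ∈ L → (∀ x ∈ L, x * e = e * x) →
      (∀ g ∈ S, g ∉ L → ∀ g' ∈ S, g' ∉ L → g * g' ∈ L) → (∀ x ∈ L, t * x * t ∈ L) →
      (∀ x ∈ L, t * x * t * x ∈ h.E) → Half A P S t w z e L :=
    fun L h1 h2 h3 h4 h5 h6 h7 =>
      { toFourSetting := h, leS := h1, eL := h2 h.eE, wL := h3, commE := h4, idx := h5, tL := h6,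
        inverted := fun x hx => h.mem_E.1 (h7 x hx) }
  by_cases hKS : ∀ x ∈ S, x * e = e * x
  · by_cases hsmall : ∀ x ∈ S, x ∈ h.E ∨ x * w⁻¹ ∈ h.E
    · refine ⟨S, mk S le_rfl h.E_le h.wS hKS (fun _ hg _ _ hg' _ => mul_mem hg hg')
        (fun x hx => h.conjS hx) ?_⟩
      intro x hx
      rcases hsmall x hx with e1 | e1
      · exact mul_mem (h.E_tconj e1) e1
      · obtain ⟨ε, hε, rfl⟩ : ∃ ε ∈ h.E, x = ε * w := ⟨_, e1, by group⟩
        have hc : Commute ε w := by
          have h1 := (show Commute w z from h.zP w (h.memP h.wS))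
          rcases h.mem_E.1 hε with e2 | e2 | e2 | e2 <;> rw [e2]
          exacts [Commute.one_left _, h1.symm, (show Commute w e from hwe).symm,
            (h1.mul_right hwe).symm]
        rw [show t * (ε * w) * t = t * ε * (w * t) by
            rw [show t * (ε * w) * t = t * ε * (w * t) by group],
          ← h.wt, show t * ε * (t * w) * (ε * w) = t * ε * t * (w * ε) * w by group, ← hc.eq,
          show t * ε * t * (ε * w) * w = t * ε * t * ε * w ^ 2 by rw [pow_two]; group, h.w2]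
        exact mul_mem (mul_mem (h.E_tconj hε) hε) h.zE
    -- an index two subgroup containing the four group, normal in `P`
    obtain ⟨l, hl⟩ := IsPGroup.iff_card.mp h.frame.two
    haveI : (h.E.subgroupOf P).Normal := ⟨fun g hg p => h.E_conj p.2 hg⟩
    haveI : (S.subgroupOf P).Normal := ⟨fun g hg p => by
      simp only [mem_subgroupOf, Subgroup.coe_mul, InvMemClass.coe_inv] at hg ⊢
      refine (h.memS _).2 ⟨h.tN _ ?_ _ (h.memA hg), mul_mem (mul_mem p.2 g.2) (inv_mem p.2)⟩
      rcases h.coset p p.2 with e1 | e1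
      · exact mem_sup_left e1
      · simpa using mul_mem (inv_mem (mem_sup_right (mem_zpowers t) : t ∈ A ⊔ zpowers t))
          (mem_sup_left e1 : t * (p : G) ∈ A ⊔ zpowers t)⟩
    have hSP : S ≤ P := fun x hx => h.memP hx
    have hEP : h.E ≤ P := h.E_le.trans hSP
    obtain ⟨m, hm⟩ := IsPGroup.iff_card.mp (h.frame.two.to_le h.E_le)
    have hml : m < l := by
      have hlt : h.E < S := lt_of_le_of_ne h.E_le fun e1 => h.w_notE (by rw [e1]; exact h.wS)
      have := Set.ncard_lt_ncard (SetLike.coe_ssubset_coe.mpr hlt) (Set.toFinite _)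
      rw [← Nat.card_coe_set_eq, ← Nat.card_coe_set_eq] at this
      simp only [SetLike.coe_sort_coe] at this
      rw [hm, hl] at this
      exact (Nat.pow_lt_pow_iff_right (by norm_num)).1 this
    have hle : h.E.subgroupOf P ≤ S.subgroupOf P := fun g hg => h.E_le hg
    obtain ⟨N, hNn, hEN, hNS, hNc⟩ := exists_normal_card h.two hle (l - 1 - m) (by
        rw [Nat.card_congr (subgroupOfEquivOfLe hEP).toEquiv,
          Nat.card_congr (subgroupOfEquivOfLe hSP).toEquiv, hm, hl, ← pow_add]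
        exact Nat.pow_le_pow_right (by norm_num) (by omega))
    set L : Subgroup G := N.map P.subtype with hL
    have hLS : L ≤ S := by rintro _ ⟨y, hy, rfl⟩; exact hNS hy
    have hEL : h.E ≤ L := fun x hx => ⟨⟨x, hEP hx⟩, hEN hx, rfl⟩
    have hLc : Nat.card L = 2 ^ (l - 1) := by
      rw [← Nat.card_congr (N.equivMapOfInjective _ P.subtype_injective).toEquiv, hNc,
        Nat.card_congr (subgroupOfEquivOfLe hEP).toEquiv, hm, ← pow_add]
      congr 1; omega
    have hL2 : (L.subgroupOf S).index = 2 := by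
      have h1 := card_mul_index (L.subgroupOf S)
      rw [Nat.card_congr (subgroupOfEquivOfLe hLS).toEquiv, hLc, hl] at h1
      conv_rhs at h1 => rw [show l = l - 1 + 1 by omega, pow_succ]
      exact Nat.eq_of_mul_eq_mul_left (pow_pos (by norm_num) _) h1
    have hidx : ∀ g ∈ S, g ∉ L → ∀ g' ∈ S, g' ∉ L → g * g' ∈ L := fun g hg hgn g' hg' hgn' =>
      (mul_mem_iff_of_index_two hL2 (a := ⟨g, hg⟩) (b := ⟨g', hg'⟩)).2 (iff_of_false hgn hgn')
    have htL : ∀ x ∈ L, t * x * t ∈ L := by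
      rintro _ ⟨y, hy, rfl⟩
      exact ⟨_, hNn.conj_mem y hy ⟨t, h.tP⟩, by simp [h.tinv]⟩
    obtain ⟨g₀, hg₀, hg₀L⟩ : ∃ g ∈ S, g ∉ L := by
      by_contra hall
      push Not at hall
      have : Nat.card S ≤ Nat.card L := Nat.card_le_card_of_injective (Subgroup.inclusion hall)
        (Subgroup.inclusion_injective _)
      rw [hl, hLc, Nat.pow_le_pow_iff_right (by norm_num)] at this
      omega
    obtain ⟨hinv, hw⟩ := h.inverted_of_proper hwe L hEL hLS hidx htL hg₀ hg₀L
    have hwL : w ∈ L := by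
      refine hw ?_
      by_contra hall
      push Not at hall
      apply hsmall
      intro x hx
      by_cases hxL : x ∈ L
      · exact Or.inl (hall x hxL)
      · exact Or.inr (hall _ (hidx x hx hxL _ (inv_mem h.wS)
          fun e1 => h.w_notE (hall _ (inv_mem_iff.1 e1))))
    exact ⟨L, mk L hLS hEL hwL (fun x hx => hKS x (hLS hx)) hidx htL hinv⟩
  push Not at hKS
  obtain ⟨g₀, hg₀, hg₀e⟩ := hKS
  let K : Subgroup G := S ⊓ centralizer ({e} : Set G)
  have hK : ∀ x, x ∈ K ↔ x ∈ S ∧ x * e = e * x := fun x => by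
    simp only [K, mem_inf, mem_centralizer_singleton_iff]
  have hEK : h.E ≤ K := fun x hx => (hK x).2 ⟨h.E_le hx,
    comm_of_isMulCommutative (klein_elementary h.four).1 hx h.eE⟩
  have hidx : ∀ g ∈ S, g ∉ K → ∀ g' ∈ S, g' ∉ K → g * g' ∈ K := by
    intro g hg hgn g' hg' hgn'
    have hmove : ∀ g ∈ S, g ∉ K → g * e * g⁻¹ = e * z := fun g hg hgn =>
      (h.ecls g (h.memP hg)).resolve_left fun e1 => hgn ((hK g).2 ⟨hg, mul_inv_eq_iff_eq_mul.1 e1⟩)
    refine (hK _).2 ⟨mul_mem hg hg', mul_inv_eq_iff_eq_mul.1 ?_⟩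
    calc g * g' * e * (g * g')⁻¹ = g * (g' * e * g'⁻¹) * g⁻¹ := by group
      _ = (g * e * g⁻¹) * (g * z * g⁻¹) := by rw [hmove g' hg' hgn']; group
      _ = e := by
        rw [hmove g hg hgn, h.zP g (h.memP hg), mul_inv_cancel_right, mul_assoc, sq_two h.z2, mul_one]
  have htK : ∀ x ∈ K, t * x * t ∈ K := by
    intro x hx
    obtain ⟨hxS, hxe⟩ := (hK x).1 hx
    refine (hK _).2 ⟨h.conjS hxS, ?_⟩
    have h1 : t * (e * z) * t = e := by
      rw [← h.te, show t * (t * e * t) * t = (t * t) * e * (t * t) by group, h.tt, one_mul, mul_one]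
    have h2 : Commute x (e * z) :=
      (show Commute x e from hxe).mul_right (h.zP x (h.memP hxS))
    calc t * x * t * e = t * (x * (e * z)) * t := by
          nth_rewrite 1 [← h1]
          rw [show t * x * t * (t * (e * z) * t) = t * x * (t * t) * (e * z) * t by group, h.tt,
            mul_one]
          group
      _ = t * ((e * z) * x) * t := by rw [h2.eq]
      _ = e * (t * x * t) := by
          nth_rewrite 2 [← h1]
          rw [show t * (e * z) * t * (t * x * t) = t * (e * z) * (t * t) * x * t by group, h.tt,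
            mul_one]
          group
  exact ⟨K, mk K inf_le_left hEK ((hK w).2 ⟨h.wS, hwe⟩) (fun x hx => ((hK x).1 hx).2) hidx htK
    (h.inverted_of_proper hwe K hEK inf_le_left hidx htK hg₀
      (fun e1 => hg₀e ((hK g₀).1 e1).2)).1⟩

end Cfsg.CyclicFourFixed1914
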