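import Cfsg.Agent.CyclicFourFixed1914.HalfLemmas

/-!
# The normal four group case: fusion and the final contradiction
-/

namespace Cfsg.CyclicFourFixed1914

open Subgroup Cfsg.Agent.PGroupsCyclic Cfsg.Agent.PGroupsBasic Cfsg.FourGroupRank1915

variable {G : Type*} [Group G] [Finite G]

set_option maxHeartbeats 800000
set_option linter.unusedSectionVars false

/-- `g` is conjugate to `e` in `A`. -/
def ConjIn (A : Subgroup G) (e g : G) : Prop := ∃ a ∈ A, a * e * a⁻¹ = g

theorem ConjIn.self (A : Subgroup G) (e : G) : ConjIn A e e := ⟨1, one_mem _, by simp⟩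

theorem ConjIn.conj {A : Subgroup G} {e g : G} (hg : ConjIn A e g) {a : G} (ha : a ∈ A) :
    ConjIn A e (a * g * a⁻¹) := by
  obtain ⟨b, hb, rfl⟩ := hg
  exact ⟨a * b, mul_mem ha hb, by group⟩

theorem ConjIn.symm' {A : Subgroup G} {e g : G} (hg : ConjIn A e g) : ConjIn A g e := by
  obtain ⟨b, hb, rfl⟩ := hg
  exact ⟨b⁻¹, inv_mem hb, by group⟩

theorem ConjIn.trans' {A : Subgroup G} {e g k : G} (h₁ : ConjIn A e g) (h₂ : ConjIn A g k) :
    ConjIn A e k := by
  obtain ⟨b, hb, rfl⟩ := h₂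
  exact h₁.conj hb

theorem mul_inverted {σ ρ : G} (hσρ : σ * ρ * σ⁻¹ = ρ⁻¹) (k : ℤ) : ρ ^ k * σ = σ * ρ ^ (-k) := by
  have h1 : σ * ρ ^ (-k) * σ⁻¹ = ρ ^ k := by rw [← conj_zpow, hσρ, inv_zpow, zpow_neg, inv_inv]
  rw [← h1, inv_mul_cancel_right]

/-- The elementary group generated by a four group and a commuting involution. -/
theorem card_octet {E : Subgroup G} {u : G} (hu : u ∉ E) (T : Subgroup G)
    (hT : ∀ g, g ∈ T ↔ g ∈ E ∨ u⁻¹ * g ∈ E) : Nat.card T = 2 * Nat.card E := by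
  classical
  let f : Bool × E → T := fun p =>
    ⟨(if p.1 then u else 1) * p.2, (hT _).2 (by rcases p with ⟨_ | _, y⟩ <;> simp)⟩
  have hf : Function.Bijective f := by
    constructor
    · rintro ⟨_ | _, y⟩ ⟨_ | _, y'⟩ hh <;> have h1 := congrArg Subtype.val hh <;>
        simp [f] at h1 ⊢
      · exact h1
      · exact hu ((mul_mem_cancel_right y'.2).1 (h1 ▸ y.2))
      · exact hu ((mul_mem_cancel_right y.2).1 (h1.symm ▸ y'.2))
      · exact h1
    · intro g
      rcases (hT g).1 g.2 with e1 | e1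
      · exact ⟨(false, ⟨g, e1⟩), Subtype.ext (by simp [f])⟩
      · exact ⟨(true, ⟨u⁻¹ * g, e1⟩), Subtype.ext (by simp [f])⟩
  rw [← Nat.card_congr (Equiv.ofBijective f hf), Nat.card_prod, Nat.card_eq_fintype_card,
    Fintype.card_bool]

namespace Half

variable {A P S : Subgroup G} {t w z e : G} {L : Subgroup G}

theorem t_A (h : Half A P S t w z e L) {a : G} (ha : a ∈ A) : t * a * t ∈ A := by
  simpa [h.tinv] using h.tN t (mem_sup_right (mem_zpowers t)) a ha

/-- Applying `t` turns conjugates of `e` into conjugates of `e z`. -/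
theorem flip (h : Half A P S t w z e L) {g : G} (hg : ConjIn A e g) :
    ConjIn A (e * z) (t * g * t) := by
  obtain ⟨a, ha, rfl⟩ := hg
  refine ⟨t * a * t, h.t_A ha, ?_⟩
  rw [← h.te, mul_inv_rev, mul_inv_rev, h.tinv]
  calc t * a * t * (t * e * t) * (t * (a⁻¹ * t)) = t * a * (t * t) * e * (t * t) * a⁻¹ * t := by group
    _ = _ := by rw [h.tt, mul_one]; group

theorem not_z (h : Half A P S t w z e L) : ¬ ConjIn A e z := fun ⟨_, ha, hae⟩ =>
  h.not_conj_z ha hae

theorem not_ez_z (h : Half A P S t w z e L) : ¬ ConjIn A (e * z) z := by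
  rintro ⟨a, ha, hae⟩
  apply h.not_conj_z (h.t_A ha)
  rw [← h.te] at hae
  calc t * a * t * e * (t * a * t)⁻¹ = t * (a * (t * e * t) * a⁻¹) * t := by
        rw [mul_inv_rev, mul_inv_rev, h.tinv]; group
    _ = t * z * t := by rw [hae]
    _ = z := by rw [h.tz, mul_assoc, h.tt, mul_one]

/-- Transfer with a subgroup of index two avoiding `e`. -/
theorem exists_coset (h : Half A P S t w z e L) {ρ : G} (hj : h.Gen ρ) {σ : G} (hσS : σ ∈ S)
    (hσL : σ ∉ L) (hσρ : σ * ρ * σ⁻¹ = ρ⁻¹) (hσ2 : σ ^ 2 ∈ zpowers ρ) :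
    ∃ i : ℤ, ConjIn A e (σ * ρ ^ i) := by
  have hswap : ∀ y ∈ zpowers ρ, y * σ = σ * y⁻¹ := by
    intro y hy
    obtain ⟨k, rfl⟩ := mem_zpowers_iff.mp hy
    rw [mul_inverted hσρ, zpow_neg]
  let J : Subgroup G :=
    { carrier := {g | g ∈ zpowers ρ ∨ σ⁻¹ * g ∈ zpowers ρ}
      one_mem' := Or.inl (one_mem _)
      mul_mem' := by
        intro g g' hg hg'
        rcases hg with hg | hg <;> rcases hg' with hg' | hg'
        · exact Or.inl (mul_mem hg hg')
        · refine Or.inr ?_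
          have h1 : σ⁻¹ * (g * g') = (σ⁻¹ * (g * σ)) * (σ⁻¹ * g') := by group
          rw [h1, hswap g hg, inv_mul_cancel_left]
          exact mul_mem (inv_mem hg) hg'
        · exact Or.inr (by rw [← mul_assoc]; exact mul_mem hg hg')
        · refine Or.inl ?_
          have h1 : g * g' = σ * ((σ⁻¹ * g) * σ) * (σ⁻¹ * g') := by group
          rw [h1, hswap _ hg, ← mul_assoc σ σ, ← pow_two]
          exact mul_mem (mul_mem hσ2 (inv_mem hg)) hg'
      inv_mem' := by
        intro g hg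
        rcases hg with hg | hg
        · exact Or.inl (inv_mem hg)
        · refine Or.inr ?_
          have h1 : σ⁻¹ * g⁻¹ = σ⁻¹ * ((σ⁻¹ * g)⁻¹ * σ) * (σ ^ 2)⁻¹ := by group
          rw [h1, hswap _ (inv_mem hg), inv_mul_cancel_left]
          exact mul_mem (inv_mem (inv_mem hg)) (inv_mem hσ2) }
  have hρS : zpowers ρ ≤ S := zpowers_le.mpr (h.leS hj.mem)
  have hJS : J ≤ S := by
    rintro g (hg | hg)
    · exact hρS hg
    · simpa using mul_mem hσS (hρS hg)
  have heJ : e ∉ J := by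
    rintro (he | he)
    · exact hj.e_notMem he
    · refine hσL ?_
      have := mul_mem h.eL (inv_mem (zpowers_le.mpr hj.mem he))
      simpa using this
  have hLJ : ∀ l ∈ L, l ∈ zpowers ρ ∨ l * e ∈ zpowers ρ := by
    intro l hl
    obtain ⟨i, ε, hε, rfl⟩ := hj.gen l hl
    have hi := zpow_mem (mem_zpowers ρ) i
    rcases h.mem_E.1 hε with e1 | e1 | e1 | e1 <;> rw [e1]
    · left; simpa using hi
    · left; exact mul_mem hi hj.z_mem
    · right; rw [mul_assoc, sq_two h.e2, mul_one]; exact hi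
    · right; rw [mul_assoc, mul_assoc, sq_two h.e2, mul_one]; exact mul_mem hi hj.z_mem
  obtain ⟨a, ha, haJ⟩ := h.frame.exists_conj_mem J hJS h.eS h.four.2.1 h.e2 heJ (fun y hy => by
    by_cases hyL : y ∈ L
    · exact (hLJ y hyL).imp Or.inl Or.inl
    · rcases hLJ _ (h.idx _ (inv_mem hσS) (fun e1 => hσL (inv_mem_iff.1 e1)) y hy hyL) with e1 | e1
      · exact Or.inl (Or.inr e1)
      · exact Or.inr (Or.inr (by rwa [← mul_assoc])))
  rcases haJ with haJ | haJ
  · exfalso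
    rcases hj.inv_cases haJ (by rw [conj_pow, h.e2, mul_one, mul_inv_cancel]) with e1 | e1
    · exact h.four.2.1 (conj_eq_one_iff.1 e1)
    · exact h.not_conj_z ha e1
  · obtain ⟨i, hi⟩ := mem_zpowers_iff.mp haJ
    exact ⟨i, a, ha, by rw [hi, mul_inv_cancel_left]⟩

theorem shift (h : Half A P S t w z e L) {σ ρ g : G} (hρ : ρ ∈ L) (hσρ : σ * ρ * σ⁻¹ = ρ⁻¹)
    {i : ℤ} (hg : ConjIn A g (σ * ρ ^ i)) (k : ℤ) : ConjIn A g (σ * ρ ^ (i + 2 * k)) := by
  have := hg.conj (h.memA (h.leS (zpow_mem hρ (-k))))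
  rwa [← mul_assoc, mul_inverted hσρ, neg_neg, mul_assoc σ, mul_assoc σ, ← zpow_add, ← zpow_neg,
    ← zpow_add, neg_neg, show k + i + k = i + 2 * k by ring] at this

/-- When `S` centralizes the four group, `e` and `e z` are not conjugate. -/
theorem not_e_ez (h : Half A P S t w z e L) (hcent : ∀ y ∈ S, y * e = e * y)
    (hsq : ∀ y ∈ S, ∀ k ∈ S, y = k ^ 2 → y ^ 2 = 1 → y = 1 ∨ y = z) : ¬ ConjIn A e (e * z) := by
  rintro ⟨a, ha, hae⟩
  have : Fact (Nat.Prime 2) := ⟨Nat.prime_two⟩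
  obtain ⟨P0, hP0⟩ := h.frame.exists_sylow
  have hmem : ∀ x : A, x ∈ (P0 : Subgroup A) ↔ (x : G) ∈ S := fun x => by
    rw [hP0, mem_subgroupOf]
  have hcen : ∀ x : A, (∀ y ∈ S, y * (x : G) = x * y) → x ∈ centralizer (P0 : Set A) := fun x hx =>
    mem_centralizer_iff.mpr fun y hy => Subtype.ext (hx y ((hmem y).1 hy))
  obtain ⟨n, hn, hne⟩ := P0.conj_eq_normalizer_conj_of_mem_centralizer ⟨e, h.memA h.eS⟩
    (⟨a, ha⟩⁻¹) (hcen _ hcent) (hcen _ (by
      intro y hy
      simp only [inv_inv, Subgroup.coe_mul, InvMemClass.coe_inv]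
      rw [hae]
      exact ((show Commute y e from hcent y hy).mul_right (h.zP y (h.memP hy))).eq))
  have hne' : (n : G)⁻¹ * e * n = e * z := by
    have := congrArg Subtype.val hne
    simp only [inv_inv, Subgroup.coe_mul, InvMemClass.coe_inv] at this
    rw [← this, hae]
  have hnS : ∀ y ∈ S, (n : G) * y * (n : G)⁻¹ ∈ S := fun y hy => by
    have := ((mem_normalizer_iff.mp hn) ⟨y, h.memA (by exact hy)⟩).mp ((hmem _).2 hy)
    exact (hmem _).1 this
  have hnS' : ∀ y ∈ S, (n : G)⁻¹ * y * n ∈ S := fun y hy => by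
    have := ((mem_normalizer_iff.mp (inv_mem hn)) ⟨y, h.memA (by exact hy)⟩).mp ((hmem _).2 hy)
    have := (hmem _).1 this
    simpa using this
  have hnz : (n : G)⁻¹ * z * n = z := by
    refine (hsq _ (hnS' z h.zS) ((n : G)⁻¹ * w * n) (hnS' w h.wS) ?_ ?_).resolve_left ?_
    · rw [pow_two, show (n : G)⁻¹ * w * n * ((n : G)⁻¹ * w * n) = (n : G)⁻¹ * (w * w) * n by group,
        ← pow_two, h.w2]
    · rw [pow_two, show (n : G)⁻¹ * z * n * ((n : G)⁻¹ * z * n) = (n : G)⁻¹ * (z * z) * n by group,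
        sq_two h.z2]; group
    · intro e1
      exact h.z1 (by
        calc z = (n : G) * ((n : G)⁻¹ * z * n) * (n : G)⁻¹ := by group
          _ = 1 := by rw [e1]; simp)
  -- iterate
  have hiter : ∀ k : ℕ, ((n : G) ^ k)⁻¹ * e * (n : G) ^ k = if Even k then e else e * z := by
    intro k
    induction k with
    | zero => simp
    | succ k ih =>
      rw [pow_succ, show ((n : G) ^ k * n)⁻¹ * e * ((n : G) ^ k * n) =
        (n : G)⁻¹ * (((n : G) ^ k)⁻¹ * e * (n : G) ^ k) * n by group, ih]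
      by_cases hk : Even k
      · rw [if_pos hk, if_neg (by simpa [Nat.even_add_one] using hk), hne']
      · rw [if_neg hk, if_pos (Nat.even_add_one.mpr hk),
          show (n : G)⁻¹ * (e * z) * n = ((n : G)⁻¹ * e * n) * ((n : G)⁻¹ * z * n) by group, hne',
          hnz, mul_assoc, sq_two h.z2, mul_one]
  obtain ⟨a2, m, hm, ho⟩ := Nat.exists_eq_two_pow_mul_odd (orderOf_pos (n : G)).ne'
  set n' : G := (n : G) ^ m with hn'def
  have hn'A : n' ∈ A := pow_mem n.2 m
  have hn'S : ∀ y ∈ S, n' * y * n'⁻¹ ∈ S := by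
    have : ∀ k : ℕ, ∀ y ∈ S, (n : G) ^ k * y * ((n : G) ^ k)⁻¹ ∈ S := by
      intro k
      induction k with
      | zero => intro y hy; simpa using hy
      | succ k ih =>
        intro y hy
        rw [show (n : G) ^ (k + 1) * y * ((n : G) ^ (k + 1))⁻¹ =
          (n : G) ^ k * ((n : G) * y * (n : G)⁻¹) * ((n : G) ^ k)⁻¹ by rw [pow_succ]; group]
        exact ih _ (hnS y hy)
    exact this m
  have hn'norm : n' ∈ normalizer (S : Set G) := by
    rw [mem_normalizer_iff]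
    intro y
    refine ⟨hn'S y, fun hy => ?_⟩
    have hbij : Function.Surjective (fun q : S => (⟨n' * q * n'⁻¹, hn'S q q.2⟩ : S)) :=
      Finite.surjective_of_injective fun q q' hqq =>
        Subtype.ext (mul_left_cancel (mul_right_cancel (congrArg Subtype.val hqq)))
    obtain ⟨q, hq⟩ := hbij ⟨_, hy⟩
    have hq' : n' * (q : G) * n'⁻¹ = n' * y * n'⁻¹ := congrArg Subtype.val hq
    exact mul_left_cancel (mul_right_cancel hq') ▸ q.2
  have hn'2 : IsPGroup 2 (zpowers n' ⊔ S : Subgroup G) := by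
    refine IsPGroup.to_sup_of_normal_right' ?_ h.frame.two (zpowers_le.mpr hn'norm)
    intro g
    obtain ⟨k, hk⟩ := mem_zpowers_iff.mp g.2
    refine ⟨a2, Subtype.ext ?_⟩
    show (g : G) ^ (2 ^ a2) = 1
    rw [← hk, ← zpow_natCast, ← zpow_mul, mul_comm, zpow_mul, zpow_natCast, hn'def, ← pow_mul,
      mul_comm m, ← ho, pow_orderOf_eq_one, one_zpow]
  have hle : zpowers n' ⊔ S ≤ A := sup_le (zpowers_le.mpr hn'A) h.frame.le
  have heq := eq_of_le_of_card_ge (le_sup_right : S ≤ zpowers n' ⊔ S) (h.frame.card_le hle hn'2)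
  have hn'mem : n' ∈ S := by rw [heq]; exact mem_sup_left (mem_zpowers n')
  have h1 := hiter m
  rw [if_neg (Nat.not_even_iff_odd.2 hm), ← hn'def, mul_assoc, ← hcent n' hn'mem, inv_mul_cancel_left]
    at h1
  exact h.z1 (mul_eq_left.1 h1.symm)

/-- The normal four group case is impossible. -/
theorem absurd' (h : Half A P S t w z e L) : False := by
  have : Fact (Nat.Prime 2) := ⟨Nat.prime_two⟩
  obtain ⟨j, hj⟩ := h.exists_gen
  by_cases hout : ∀ c ∈ S, c ^ 2 = 1 → c ∈ L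
  · -- all involutions are in `L`
    let J : Subgroup S := (zpowers j).subgroupOf S
    haveI : J.Normal := ⟨fun g hg p => hj.conj_mem p.2 hg⟩
    have hJ : ∀ a ∈ S, ∀ b ∈ L, a * b * (b * a)⁻¹ ∈ zpowers j := by
      intro a ha b hb
      obtain ⟨i, ε, hε, rfl⟩ := hj.gen b hb
      have hji := zpow_mem (mem_zpowers j) i
      have haε : a * ε * a⁻¹ * ε⁻¹ ∈ zpowers j := by
        have hz := hj.z_mem
        have he : a * e * a⁻¹ = e ∨ a * e * a⁻¹ = e * z := h.ecls a (h.memP ha)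
        have hza : a * z * a⁻¹ = z := by rw [h.zP a (h.memP ha), mul_inv_cancel_right]
        have hee : a * e * a⁻¹ * e⁻¹ ∈ zpowers j := by
          rcases he with e1 | e1 <;> rw [e1]
          · rw [mul_inv_cancel]; exact one_mem _
          · rw [h.ez, mul_inv_cancel_right]; exact hz
        rcases h.mem_E.1 hε with e1 | e1 | e1 | e1 <;> rw [e1]
        · simp
        · rw [hza, mul_inv_cancel]; exact one_mem _
        · exact hee
        · rw [show a * (z * e) * a⁻¹ * (z * e)⁻¹ = (a * z * a⁻¹) * (a * e * a⁻¹ * e⁻¹) * z⁻¹ by group,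
            hza]
          exact mul_mem (mul_mem hz hee) (inv_mem hz)
      have hrw : a * (j ^ i * ε) * (j ^ i * ε * a)⁻¹ =
          (a * j ^ i * a⁻¹) * (a * ε * a⁻¹ * ε⁻¹) * (j ^ i)⁻¹ := by group
      rw [hrw]
      exact mul_mem (mul_mem (hj.conj_mem ha hji) haε) (inv_mem hji)
    have hcomm : ∀ a b : S, a * b * (b * a)⁻¹ ∈ J := by
      rintro ⟨a, ha⟩ ⟨b, hb⟩
      show a * b * (b * a)⁻¹ ∈ zpowers j
      by_cases hbL : b ∈ L
      · exact hJ a ha b hbL
      by_cases haL : a ∈ L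
      · have := inv_mem (hJ b hb a haL)
        rwa [mul_inv_rev, inv_inv] at this
      obtain ⟨l, hl, rfl⟩ : ∃ l ∈ L, b = a * l :=
        ⟨a⁻¹ * b, h.idx _ (inv_mem ha) (fun e1 => haL (inv_mem_iff.1 e1)) b hb hbL, by group⟩
      rw [show a * (a * l) * (a * l * a)⁻¹ = a * (a * l * (l * a)⁻¹) * a⁻¹ by group]
      exact hj.conj_mem ha (hJ a ha l hl)
    refine hj.e_notMem (h.frame.mem_of_fusion J hcomm h.eS (orderOf_eq_prime h.e2 h.four.2.1) ?_)
    intro g hg hge
    show e⁻¹ * (g * e * g⁻¹) ∈ zpowers j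
    have h2 : (g * e * g⁻¹) ^ 2 = 1 := by rw [conj_pow, h.e2, mul_one, mul_inv_cancel]
    rcases h.mem_E.1 (hj.inv_mem_E (hout _ hge h2) h2) with e1 | e1 | e1 | e1
    · exact absurd (conj_eq_one_iff.1 e1) h.four.2.1
    · exact absurd e1 (h.not_conj_z hg)
    · rw [e1, inv_mul_cancel]; exact one_mem _
    · rw [e1, ← h.ez, inv_mul_cancel_left]; exact hj.z_mem
  push Not at hout
  obtain ⟨c, hcS, hc2, hcL⟩ := hout
  have hci : c⁻¹ = c := inv_self_of_sq hc2
  set x := c * (t * c * t) with hxdef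
  have hxL : x ∈ L := h.idx c hcS hcL _ (h.conjS hcS) fun e1 => hcL (by
    have := h.tL _ e1
    rwa [show t * (t * c * t) * t = (t * t) * c * (t * t) by group, h.tt, one_mul, mul_one] at this)
  have htct : t * c * t = c * x := by rw [hxdef, ← mul_assoc, sq_two hc2, one_mul]
  have hcx : c * x * c⁻¹ = x⁻¹ := by
    apply eq_inv_of_mul_eq_one_left
    rw [hci, show c * x * c * x = (c * x) * (c * x) by group, ← htct,
      show t * c * t * (t * c * t) = t * c * (t * t) * c * t by group, h.tt, mul_one,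
      mul_assoc t c c, sq_two hc2, mul_one, h.tt]
  have htx : t * x * t = x⁻¹ := by
    rw [hxdef, mul_inv_rev, mul_inv_rev, mul_inv_rev, h.tinv, hci]
    calc t * (c * (t * c * t)) * t = t * c * (t * c) * (t * t) := by group
      _ = _ := by rw [h.tt, mul_one]; group
  have hgenx : h.Gen x := by
    obtain ⟨i, ε, hε, hxi⟩ := hj.gen x hxL
    rcases Int.even_or_odd i with ⟨l, hl⟩ | ⟨l, hl⟩
    · exfalso
      obtain ⟨η, hη, htj⟩ := hj.t_conj
      have hηE : η ∈ h.E := by rcases hη with e1 | e1 <;> rw [e1]; exacts [one_mem _, h.zE]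
      have hy : (c * j ^ l)⁻¹ * (t * (c * j ^ l) * t) ∈ h.E := by
        have h1 : t * (c * j ^ l) * t = c * x * (η * j⁻¹) ^ l := by
          rw [← htct, ← htj]
          have : (t * j * t) ^ l = t * j ^ l * t := by
            conv_lhs => arg 1; arg 2; rw [← h.tinv]
            rw [conj_zpow, h.tinv]
          rw [this, show t * c * t * (t * j ^ l * t) = t * c * (t * t) * j ^ l * t by group, h.tt,
            mul_one]
          group
        rw [h1, hxi, (h.commE' (inv_mem hj.mem) hηE).symm.mul_zpow,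
          (h.commE' (zpow_mem (inv_mem hj.mem) l) (zpow_mem hηE l)).symm.eq, inv_zpow, hl, zpow_add,
          show (c * j ^ l)⁻¹ * (c * (j ^ l * j ^ l * ε) * ((j ^ l)⁻¹ * η ^ l)) =
            j ^ l * ε * (j ^ l)⁻¹ * η ^ l by group,
          (h.commE' (zpow_mem hj.mem l) hε).eq, mul_inv_cancel_right]
        exact mul_mem hε (zpow_mem hηE l)
      rcases h.lift (mul_mem hcS (h.leS (zpow_mem hj.mem l))) hy with e1 | e1
      · exact hcL ((mul_mem_cancel_right (zpow_mem hj.mem l)).1 (h.EL e1))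
      · exact hcL ((mul_mem_cancel_right (zpow_mem hj.mem l)).1
          ((mul_mem_cancel_right (inv_mem h.wL)).1 (h.EL e1)))
    · refine ⟨hxL, fun y hy => ?_⟩
      obtain ⟨n, hn, -⟩ := hj.order
      obtain ⟨a, b, hab⟩ : IsCoprime i ((2 : ℤ) ^ (n + 1)) :=
        IsCoprime.pow_right ⟨1, -l, by rw [hl]; ring⟩
      obtain ⟨k, δ, hδ, rfl⟩ := hj.gen y hy
      have hcx' : Commute (j ^ i) ε := h.commE' (zpow_mem hj.mem i) hε
      refine ⟨a * k, (ε ^ (a * k))⁻¹ * δ, mul_mem (inv_mem (zpow_mem hε _)) hδ, ?_⟩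
      rw [hxi, hcx'.mul_zpow, mul_assoc, mul_inv_cancel_left, ← zpow_mul]
      congr 1
      rw [zpow_eq_iff_dvd, hn]
      push_cast
      exact ⟨b * k, by linear_combination -k * hab⟩
  have hLx : ∀ l ∈ L, c * l * c⁻¹ * l ∈ L := fun l hl => mul_mem (h.conj_mem hcS hl) hl
  by_cases hce : c * e = e * c
  swap
  · -- `S` moves `e`
    have hce' : c * e * c⁻¹ = e * z :=
      (h.ecls c (h.memP hcS)).resolve_left fun e1 => hce (mul_inv_eq_iff_eq_mul.1 e1)
    have hσL : c * e ∉ L := fun e1 => hcL ((mul_mem_cancel_right h.eL).1 e1)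
    have hσ2 : (c * e) ^ 2 = z := by
      calc (c * e) ^ 2 = (c * e * c⁻¹) * c ^ 2 * e := by rw [pow_two, pow_two]; group
        _ = z := by rw [hce', hc2, mul_one, h.ez, mul_assoc, sq_two h.e2, mul_one]
    have hσx : c * e * x * (c * e)⁻¹ = x⁻¹ := by
      rw [show c * e * x * (c * e)⁻¹ = c * (e * x * e⁻¹) * c⁻¹ by group, ← h.commE x hxL,
        mul_inv_cancel_right, hcx]
    obtain ⟨i, a, ha, hai⟩ := h.exists_coset hgenx (mul_mem hcS h.eS) hσL hσx
      (hσ2 ▸ hgenx.z_mem)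
    apply h.z1
    have h1 : (c * e * x ^ i) ^ 2 = z := by
      calc (c * e * x ^ i) ^ 2 = c * e * (x ^ i * (c * e)) * x ^ i := by rw [pow_two]; group
        _ = c * e * (c * e) := by rw [mul_inverted hσx, zpow_neg]; group
        _ = z := by rw [← pow_two, hσ2]
    rw [← h1, ← hai, conj_pow, h.e2, mul_one, mul_inv_cancel]
  -- `S` centralizes `e`
  have hcent : ∀ y ∈ S, y * e = e * y := by
    intro y hy
    by_cases hyL : y ∈ L
    · exact h.commE y hyL
    · have h1 : Commute (c * y) e := h.commE _ (h.idx c hcS hcL y hy hyL)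
      have h2 : Commute c⁻¹ e := (show Commute c e from hce).inv_left
      simpa using (h2.mul_left h1).eq
  have hcE : ∀ y ∈ S, ∀ ε ∈ h.E, Commute y ε := by
    intro y hy ε hε
    have h1 : Commute y z := h.zP y (h.memP hy)
    rcases h.mem_E.1 hε with e1 | e1 | e1 | e1 <;> rw [e1]
    exacts [Commute.one_right _, h1, hcent y hy, h1.mul_right (hcent y hy)]
  have hcl : ∀ l ∈ L, ∃ i : ℤ, ∃ ε ∈ h.E, l = x ^ i * ε ∧ c * l * c⁻¹ = x ^ (-i) * ε := by
    intro l hl
    obtain ⟨i, ε, hε, rfl⟩ := hgenx.gen l hl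
    refine ⟨i, ε, hε, rfl, ?_⟩
    rw [show c * (x ^ i * ε) * c⁻¹ = (c * x ^ i * c⁻¹) * (c * ε * c⁻¹) by group, ← conj_zpow, hcx,
      inv_zpow', (hcE c hcS ε hε).eq, mul_inv_cancel_right]
  have hsq : ∀ y ∈ S, ∀ k ∈ S, y = k ^ 2 → y ^ 2 = 1 → y = 1 ∨ y = z := by
    intro y _ k hk hyk hy2
    refine hgenx.inv_cases ?_ hy2
    rw [hyk]
    by_cases hkL : k ∈ L
    · exact hgenx.sq_mem_zpowers hkL
    · obtain ⟨i, ε, hε, hl, hl'⟩ := hcl _ (h.idx c hcS hcL k hk hkL)
      have hk' : k = c * (x ^ i * ε) := by rw [← hl, ← mul_assoc, sq_two hc2, one_mul]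
      rw [hk', pow_two, show c * (x ^ i * ε) * (c * (x ^ i * ε)) =
        (c * (x ^ i * ε) * c⁻¹) * (c * c) * (x ^ i * ε) by group, sq_two hc2, mul_one, ← hl, hl', hl,
        (h.commE' (zpow_mem hgenx.mem i) hε).eq, ← mul_assoc, mul_assoc (x ^ (-i)) ε ε,
        sq_two (h.E_sq hε), mul_one, ← zpow_add, neg_add_cancel, zpow_zero]
      exact one_mem _
  have hnez := h.not_e_ez hcent hsq
  have htflip : ∀ i : ℤ, t * (c * x ^ i) * t = c * x ^ (1 - i) := by
    intro i
    have : t * x ^ i * t = x ^ (-i) := by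
      have h0 : t * x * t⁻¹ = x⁻¹ := by rw [h.tinv]; exact htx
      rw [show t * x ^ i * t = t * x ^ i * t⁻¹ by rw [h.tinv], ← conj_zpow, h0, inv_zpow']
    calc t * (c * x ^ i) * t = t * c * (t * t) * x ^ i * t := by rw [h.tt, mul_one]; group
      _ = (t * c * t) * (t * x ^ i * t) := by group
      _ = _ := by
        rw [htct, this, mul_assoc, ← zpow_one_add]; rfl
  obtain ⟨i, hi⟩ := h.exists_coset hgenx hcS hcL hcx (by rw [hc2]; exact one_mem _)
  set c1 := c * x ^ i with hc1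
  have hez1 : ConjIn A (e * z) (c * x ^ (1 - i)) := by
    have := h.flip hi
    rwa [hc1, htflip] at this
  have hc1S : c1 ∈ S := mul_mem hcS (h.leS (zpow_mem hxL i))
  have hc1L : c1 ∉ L := fun e1 => hcL ((mul_mem_cancel_right (zpow_mem hxL i)).1 e1)
  have hc1sq : c1 ^ 2 = 1 := by
    obtain ⟨a, _, ha'⟩ := hi
    rw [← ha', conj_pow, h.e2, mul_one, mul_inv_cancel]
  have hc1x : c1 * x * c1⁻¹ = x⁻¹ := by
    rw [hc1, show c * x ^ i * x * (c * x ^ i)⁻¹ = c * x * c⁻¹ by group, hcx]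
  have hxe : h.Gen (x * e) := by
    refine ⟨mul_mem hxL h.eL, fun y hy => ?_⟩
    obtain ⟨k, δ, hδ, rfl⟩ := hgenx.gen y hy
    refine ⟨k, (e ^ k)⁻¹ * δ, mul_mem (inv_mem (zpow_mem h.eE k)) hδ, ?_⟩
    rw [(h.commE' hxL h.eE).mul_zpow, mul_assoc, mul_inv_cancel_left]
  have hσxe : c1 * e * (x * e) * (c1 * e)⁻¹ = (x * e)⁻¹ := by
    rw [show c1 * e * (x * e) * (c1 * e)⁻¹ = c1 * (e * x) * c1⁻¹ by group, ← h.commE x hxL,
      show c1 * (x * e) * c1⁻¹ = (c1 * x * c1⁻¹) * (c1 * e * c1⁻¹) by group, hc1x, hcent c1 hc1S,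
      mul_inv_cancel_right, mul_inv_rev x e, inv_self_of_sq h.e2,
      (h.commE' (inv_mem hxL) h.eE).eq]
  have hc1e2 : (c1 * e) ^ 2 = 1 := by
    rw [(show Commute c1 e from hcent c1 hc1S).mul_pow, hc1sq, h.e2, one_mul]
  have hc1ex : c1 * e * x * (c1 * e)⁻¹ = x⁻¹ := by
    rw [show c1 * e * x * (c1 * e)⁻¹ = c1 * (e * x * e⁻¹) * c1⁻¹ by group, ← h.commE x hxL,
      mul_inv_cancel_right, hc1x]
  obtain ⟨l, hl⟩ := h.exists_coset hxe (mul_mem hc1S h.eS)
    (fun e1 => hc1L ((mul_mem_cancel_right h.eL).1 e1)) hσxe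
    (by rw [hc1e2]; exact one_mem _)
  rw [(h.commE' hxL h.eE).mul_zpow] at hl
  have hc1e : ConjIn A e (c1 * e) := by
    rcases Int.even_or_odd l with ⟨m, rfl⟩ | ⟨m, rfl⟩
    · rw [zpow_add e, ← (Commute.refl e).mul_zpow, sq_two h.e2, one_zpow, mul_one] at hl
      have := h.shift hxL hc1ex hl (-m)
      rwa [show m + m + 2 * -m = 0 by ring, zpow_zero, mul_one] at this
    · exfalso
      rw [zpow_add_one e, zpow_mul e, show e ^ (2 : ℤ) = 1 by exact_mod_cast h.e2, one_zpow, one_mul,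
        (h.commE' (zpow_mem hxL _) h.eE).eq, mul_assoc c1 e, ← mul_assoc e e, sq_two h.e2, one_mul,
        hc1, mul_assoc, ← zpow_add] at hl
      have h2 := h.shift hxL hcx hl (-(i + m))
      rw [show i + (2 * m + 1) + 2 * -(i + m) = 1 - i by ring] at h2
      exact hnez (h2.trans' hez1.symm')
  obtain ⟨i0, ε0, hε0, hzx⟩ : ∃ i0 : ℤ, ∃ ε0, ε0 = z ∧ z = x ^ (2 * i0) := by
    obtain ⟨i0, δ, hδ, hwi⟩ := hgenx.gen w h.wL
    exact ⟨i0, z, rfl, h.w2 ▸ hgenx.sq hδ hwi⟩
  have hc1z : ConjIn A e (c1 * z) := by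
    have := h.shift hxL hcx hi i0
    rwa [zpow_add, ← hzx, ← mul_assoc, ← hc1] at this
  have hc1ez : ConjIn A e (c1 * (z * e)) := by
    have h0 : ConjIn A e (c1 * e * x ^ (0 : ℤ)) := by simpa using hc1e
    have := h.shift hxL hc1ex h0 i0
    rwa [zero_add, ← hzx, mul_assoc, h.ez] at this
  -- the elementary group of order eight
  have hEle : ∀ ε ∈ h.E, ε = 1 ∨ ε = z ∨ ε = e * z ∨ ConjIn A e ε := by
    intro ε hε
    rcases h.mem_E.1 hε with e1 | e1 | e1 | e1
    · exact Or.inl e1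
    · exact Or.inr (Or.inl e1)
    · exact Or.inr (Or.inr (Or.inr (e1 ▸ ConjIn.self A e)))
    · exact Or.inr (Or.inr (Or.inl (e1.trans h.ez.symm)))
  have hc1E : ∀ ε ∈ h.E, ConjIn A e (c1 * ε) := by
    intro ε hε
    rcases h.mem_E.1 hε with e1 | e1 | e1 | e1 <;> rw [e1]
    · rw [mul_one]; exact hi
    · exact hc1z
    · exact hc1e
    · exact hc1ez
  have mkT : ∀ u ∈ S, u ^ 2 = 1 → ∃ T : Subgroup G, ∀ g, g ∈ T ↔ g ∈ h.E ∨ u⁻¹ * g ∈ h.E := by
    intro u hu hu2
    have hui := inv_self_of_sq hu2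
    refine ⟨{ carrier := {g | g ∈ h.E ∨ u⁻¹ * g ∈ h.E}
              one_mem' := Or.inl (one_mem _)
              mul_mem' := ?_
              inv_mem' := ?_ }, fun g => Iff.rfl⟩
    · intro g g' hg hg'
      rcases hg with hg | hg <;> rcases hg' with hg' | hg'
      · exact Or.inl (mul_mem hg hg')
      · refine Or.inr ?_
        rw [← mul_assoc, (hcE u⁻¹ (inv_mem hu) g hg).eq, mul_assoc]
        exact mul_mem hg hg'
      · exact Or.inr (by rw [← mul_assoc]; exact mul_mem hg hg')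
      · refine Or.inl ?_
        have h1 : g * g' = (u * (u⁻¹ * g) * u⁻¹) * (u * u) * (u⁻¹ * g') := by group
        rw [h1, (hcE u hu _ hg).eq, mul_inv_cancel_right, sq_two hu2, mul_one]
        exact mul_mem hg hg'
    · intro g hg
      rcases hg with hg | hg
      · exact Or.inl (inv_mem hg)
      · refine Or.inr ?_
        have h1 : u⁻¹ * g⁻¹ = u⁻¹ * (u⁻¹ * g)⁻¹ * u⁻¹ := by group
        rw [h1, (hcE u⁻¹ (inv_mem hu) _ (inv_mem hg)).eq, mul_assoc, ← pow_two, inv_pow, hu2, inv_one,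
          mul_one]
        exact inv_mem hg
  obtain ⟨K8, hK8⟩ := mkT c1 hc1S hc1sq
  have hTS : ∀ g ∈ K8, g ∈ S := fun g hg => by
    rcases (hK8 g).1 hg with e1 | e1
    · exact h.E_le e1
    · simpa using mul_mem hc1S (h.E_le e1)
  have hK8comm : ∀ a ∈ K8, ∀ b ∈ K8, Commute a b := by
    have key : ∀ a ∈ K8, ∃ d : G, (d = 1 ∨ d = c1) ∧ ∃ ε ∈ h.E, a = d * ε := by
      intro a ha
      rcases (hK8 a).1 ha with e1 | e1
      · exact ⟨1, Or.inl rfl, a, e1, (one_mul a).symm⟩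
      · exact ⟨c1, Or.inr rfl, _, e1, by group⟩
    intro a ha b hb
    obtain ⟨d, hd, ε, hε, rfl⟩ := key a ha
    obtain ⟨d', hd', ε', hε', rfl⟩ := key b hb
    have hdS : d ∈ S := by rcases hd with rfl | rfl; exacts [one_mem _, hc1S]
    have hdS' : d' ∈ S := by rcases hd' with rfl | rfl; exacts [one_mem _, hc1S]
    have hdd : Commute d d' := by
      rcases hd with rfl | rfl <;> rcases hd' with rfl | rfl <;>
        first | exact Commute.one_left _ | exact Commute.one_right _ | exact Commute.refl _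
    exact (hdd.mul_right (hcE d hdS ε' hε')).mul_left
      ((hcE d' hdS' ε hε).symm.mul_right
        (comm_of_isMulCommutative (klein_elementary h.four).1 hε hε'))
  have hK8sq : ∀ g ∈ K8, g ^ 2 = 1 := by
    intro g hg
    rcases (hK8 g).1 hg with e1 | e1
    · exact h.E_sq e1
    · have h1 := (hcE c1 hc1S _ e1).mul_pow 2
      rwa [mul_inv_cancel_left, hc1sq, one_mul, h.E_sq e1] at h1
  have hc1K : c1 ∈ K8 := (hK8 _).2 (Or.inr (by rw [inv_mul_cancel]; exact one_mem _))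
  have hEK : ∀ ε ∈ h.E, ε ∈ K8 := fun ε hε => (hK8 _).2 (Or.inl hε)
  have hlt : Nat.card K8 < Nat.card S := by
    have hne : K8 ≠ S := fun e1 => by
      rcases (hK8 x).1 (e1 ▸ h.leS hxL) with e2 | e2
      · have := h.E_sq e2
        rcases hgenx.inv_cases (mem_zpowers x) this with e3 | e3
        · rw [e3, mul_one] at htct
          exact h.small z (h.memA h.zS) c (h.memA hcS) ⟨h.z1, fun e4 => hcL (e4 ▸ one_mem _),
            fun e4 => hcL (e4 ▸ h.EL h.zE), h.z2, hc2, (h.zP c (h.memP hcS)).symm⟩ h.tz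
            (by calc t * c = t * c * t * t := by rw [mul_assoc (t * c), h.tt, mul_one]
                  _ = c * t := by rw [htct])
        · obtain ⟨i0, δ, hδ, hwi⟩ := hgenx.gen w h.wL
          have := hgenx.sq hδ hwi
          rw [e3, h.w2, zpow_mul, show z ^ (2 : ℤ) = 1 by exact_mod_cast h.z2, one_zpow] at this
          exact h.z1 this
      · exact hc1L (by simpa using mul_mem hxL (inv_mem (h.EL e2)))
    have := Set.ncard_lt_ncard (SetLike.coe_ssubset_coe.mpr
      (lt_of_le_of_ne (fun g hg => hTS g hg : K8 ≤ S) hne)) (Set.toFinite _)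
    rwa [← Nat.card_coe_set_eq, ← Nat.card_coe_set_eq] at this
  obtain ⟨a, ha, hae⟩ := hi.symm'
  obtain ⟨y, hyA, hyc, hyn, hyK, hyQ⟩ := h.frame.exists_normalizing ha hae hcent
    (fun g hg => h.memA (hTS g hg)) (h.frame.two.to_le hTS) (fun k hk => (hK8comm k hk c1 hc1K).eq) hlt
  -- `y` centralizes the four group
  have hnot : ∀ g ∈ h.E, g ≠ 1 → ¬ ConjIn A e g → g = z ∨ g = e * z := by
    intro g hg hg1 hgC
    rcases hEle g hg with e1 | e1 | e1 | e1
    exacts [absurd e1 hg1, Or.inl e1, Or.inr e1, absurd e1 hgC]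
  have himg : ∀ g, g ∈ h.E → g ≠ 1 → ¬ ConjIn A e g → (y * g * y⁻¹ = z ∨ y * g * y⁻¹ = e * z) := by
    intro g hg hg1 hgC
    have hC : ¬ ConjIn A e (y * g * y⁻¹) := fun e1 => hgC (by
      have := e1.conj (inv_mem hyA)
      rwa [show y⁻¹ * (y * g * y⁻¹) * y⁻¹⁻¹ = g by group] at this)
    rcases (hK8 _).1 (hyn g (hEK g hg)) with e1 | e1
    · exact hnot _ e1 (mt conj_eq_one_iff.1 hg1) hC
    · exact absurd (by simpa using hc1E _ e1) hC
  have hyz : y * z * y⁻¹ = z := by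
    refine (himg z h.zE h.z1 h.not_z).resolve_right fun e1 => h.not_ez_z ?_
    exact ConjIn.symm' ⟨y, hyA, e1⟩
  have hez1' : e * z ≠ 1 := fun e1 => h.four.2.2.1
    ((inv_self_of_sq h.z2).symm.trans (inv_eq_of_mul_eq_one_left e1))
  have hyez : y * (e * z) * y⁻¹ = e * z := by
    refine (himg (e * z) (mul_mem h.eE h.zE) hez1' hnez).resolve_left fun e1 => ?_
    have h1 := mul_left_cancel (mul_right_cancel (e1.trans hyz.symm))
    exact h.four.2.1 (mul_eq_right.1 h1)
  have hye : y * e * y⁻¹ = e := by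
    have he : e = e * z * z := by rw [mul_assoc, sq_two h.z2, mul_one]
    calc y * e * y⁻¹ = y * (e * z * z) * y⁻¹ := by rw [← he]
      _ = (y * (e * z) * y⁻¹) * (y * z * y⁻¹) := by group
      _ = e := by rw [hyez, hyz, ← he]
  have hyK8 : ∀ g ∈ K8, Commute y g := by
    have hyc1 : Commute y c1 := hyc
    have hyE : ∀ ε ∈ h.E, Commute y ε := fun ε hε => by
      have h1 : Commute y z := mul_inv_eq_iff_eq_mul.1 hyz
      have h2 : Commute y e := mul_inv_eq_iff_eq_mul.1 hye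
      rcases h.mem_E.1 hε with e1 | e1 | e1 | e1 <;> rw [e1]
      exacts [Commute.one_right _, h1, h2, h1.mul_right h2]
    intro g hg
    rcases (hK8 g).1 hg with e1 | e1
    · exact hyE g e1
    · simpa using hyc1.mul_right (hyE _ e1)
  -- move everything into `S`
  obtain ⟨b, hb, hbS⟩ := h.frame.dom (closure ({y} ∪ (K8 : Set G))) (by
    rw [closure_le]
    rintro g (hg | hg)
    · rw [Set.mem_singleton_iff.mp hg]; exact hyA
    · exact h.memA (hTS g hg)) hyQ
  set K' := K8.map (MulAut.conj b).toMonoidHom with hK'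
  have hK'mem : ∀ g, g ∈ K' ↔ ∃ k ∈ K8, b * k * b⁻¹ = g := fun g => by
    simp [hK', Subgroup.mem_map]
  have hK'S : ∀ g ∈ K', g ∈ S := fun g hg => by
    obtain ⟨k, hk, rfl⟩ := (hK'mem g).1 hg
    exact hbS k (subset_closure (Or.inr hk))
  have hK'sq : ∀ g ∈ K', g ^ 2 = 1 := fun g hg => by
    obtain ⟨k, hk, rfl⟩ := (hK'mem g).1 hg
    rw [conj_pow, hK8sq k hk, mul_one, mul_inv_cancel]
  have hc1E' : c1 ∉ h.E := fun e1 => hc1L (h.EL e1)
  have hcard : Nat.card K' = 2 * Nat.card h.E := by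
    rw [← Nat.card_congr (K8.equivMapOfInjective _ (MulAut.conj b).injective).toEquiv,
      card_octet hc1E' K8 hK8]
  obtain ⟨u, huK, huL⟩ : ∃ u ∈ K', u ∉ L := by
    by_contra hall
    push Not at hall
    have : Nat.card K' ≤ Nat.card h.E := Nat.card_le_card_of_injective
      (Subgroup.inclusion (fun g hg => hgenx.inv_mem_E (hall g hg) (hK'sq g hg) : K' ≤ h.E))
      (Subgroup.inclusion_injective _)
    have hpos : 0 < Nat.card h.E := Nat.card_pos
    omega
  have huS := hK'S u huK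
  have hu2 := hK'sq u huK
  obtain ⟨T, hT⟩ := mkT u huS hu2
  have hK'T : K' ≤ T := fun g hg => by
    rw [hT]
    by_cases hgL : g ∈ L
    · exact Or.inl (hgenx.inv_mem_E hgL (hK'sq g hg))
    · exact Or.inr (hgenx.inv_mem_E (h.idx _ (inv_mem huS) (fun e1 => huL (inv_mem_iff.1 e1)) g
        (hK'S g hg) hgL) (hK'sq _ (mul_mem (inv_mem huK) hg)))
  have hK'eq : K' = T := eq_of_le_of_card_ge hK'T (by
    rw [hcard, card_octet (fun e1 => huL (h.EL e1)) T hT])
  set q := b * y * b⁻¹ with hq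
  have hqS : q ∈ S := hbS y (subset_closure (Or.inl rfl))
  have hqu : Commute q u := by
    obtain ⟨k, hk, rfl⟩ := (hK'mem u).1 huK
    exact (hyK8 k hk).map (MulAut.conj b).toMonoidHom
  have hqT : q ∈ T := by
    have key : ∀ l ∈ L, Commute l u → l ∈ h.E := by
      intro l hl hlu
      obtain ⟨p, ε, hε, rfl, hcl'⟩ := hcl l hl
      obtain ⟨m, hm, rfl⟩ : ∃ m ∈ L, u = c * m :=
        ⟨c * u, h.idx c hcS hcL u huS huL, by rw [← mul_assoc, sq_two hc2, one_mul]⟩
      refine hgenx.inv_mem_E hl ?_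
      have h1 : c * (x ^ p * ε) * c⁻¹ = x ^ p * ε := by
        have h2 : Commute m (x ^ p * ε) := hgenx.comm hm hl
        calc c * (x ^ p * ε) * c⁻¹ = c * (m * (x ^ p * ε) * m⁻¹) * c⁻¹ := by
              rw [h2.eq, mul_inv_cancel_right]
          _ = c * m * (x ^ p * ε) * (c * m)⁻¹ := by group
          _ = x ^ p * ε := by rw [← hlu.eq, mul_inv_cancel_right]
      rw [hcl', mul_left_inj] at h1
      rw [hgenx.sq hε rfl, two_mul, zpow_add]
      nth_rewrite 1 [← h1]
      rw [← zpow_add, neg_add_cancel, zpow_zero]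
    rw [hT]
    by_cases hqL : q ∈ L
    · exact Or.inl (key q hqL hqu)
    · exact Or.inr (key _ (h.idx _ (inv_mem huS) (fun e1 => huL (inv_mem_iff.1 e1)) q hqS hqL)
        ((Commute.refl u).inv_left.mul_left hqu))
  rw [← hK'eq, hK'mem] at hqT
  obtain ⟨k, hk, hkq⟩ := hqT
  exact hyK (mul_left_cancel (mul_right_cancel hkq) ▸ hk)

end Half

end Cfsg.CyclicFourFixed1914
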