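import Cfsg.Agent.CyclicFourFixed1914.Tools
import Cfsg.Agent.S0949

/-!
# A perfect group has no Sylow subgroup homocyclic of rank two and exponent four
-/

namespace Cfsg.CyclicFourFixed1914

open Subgroup

theorem no_homocyclic_sylow {H : Type*} [Group H] [Finite H]
    (hperf : ⁅(⊤ : Subgroup H), (⊤ : Subgroup H)⁆ = ⊤) (P : Sylow 2 H)
    (e : (P : Subgroup H) ≃* Multiplicative (ZMod (2 ^ 2) × ZMod (2 ^ 2))) : False := by
  classical
  have : Fact (Nat.Prime 2) := ⟨Nat.prime_two⟩
  haveI : Nonempty {N : Subgroup H // N.Normal ∧ Odd (Nat.card N)} :=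
    ⟨⟨⊥, inferInstance, by simp⟩⟩
  obtain ⟨⟨N, hNn, hNodd⟩, hmax⟩ := Finite.exists_max
    (α := {N : Subgroup H // N.Normal ∧ Odd (Nat.card N)}) (fun N => Nat.card N.1)
  haveI := hNn
  let π := QuotientGroup.mk' N
  have hsurj : Function.Surjective π := QuotientGroup.mk'_surjective N
  have hinj : Function.Injective (π.subgroupMap (P : Subgroup H)) := by
    rw [injective_iff_map_eq_one]
    intro g hg
    have hgN : (g : H) ∈ N := (QuotientGroup.eq_one_iff _).mp (congrArg Subtype.val hg)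
    obtain ⟨k, hk⟩ := P.isPGroup' g
    have h2 : orderOf (g : H) ∣ 2 ^ k := by
      rw [orderOf_dvd_iff_pow_eq_one]; exact congrArg Subtype.val hk
    have h3 : orderOf (g : H) ∣ Nat.card N := by
      rw [orderOf_dvd_iff_pow_eq_one]
      exact congrArg Subtype.val (pow_card_eq_one' (G := N) (x := ⟨g, hgN⟩))
    have hcop : Nat.Coprime (2 ^ k) (Nat.card N) := Nat.Coprime.pow_left _ hNodd.coprime_two_left
    exact Subtype.ext (orderOf_eq_one_iff.mp (Nat.eq_one_of_dvd_coprimes hcop h2 h3))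
  let P' := P.mapSurjective hsurj
  let e' : (P' : Subgroup (H ⧸ N)) ≃* Multiplicative (ZMod (2 ^ 2) × ZMod (2 ^ 2)) :=
    (MulEquiv.ofBijective (π.subgroupMap (P : Subgroup H))
      ⟨hinj, π.subgroupMap_surjective _⟩).symm.trans e
  have hO : ∀ M : Subgroup (H ⧸ N), M.Normal → Odd (Nat.card M) → M = ⊥ := by
    intro M hM hModd
    haveI := hM
    have hle : N ≤ M.comap π := fun x hx => by
      show π x ∈ M
      rw [show π x = 1 from (QuotientGroup.eq_one_iff x).mpr hx]; exact one_mem _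
    have hcard : Nat.card (M.comap π) = Nat.card N * Nat.card M := by
      rw [← card_mul_index (N.subgroupOf (M.comap π)),
        Nat.card_congr (subgroupOfEquivOfLe hle).toEquiv]
      congr 1
      have h1 := relIndex_comap (H := (⊥ : Subgroup (H ⧸ N))) π (M.comap π)
      rw [MonoidHom.comap_bot, QuotientGroup.ker_mk', map_comap_eq_self_of_surjective hsurj,
        relIndex_bot_left] at h1
      exact h1
    have hle' := hmax ⟨M.comap π, inferInstance, hcard ▸ hNodd.mul hModd⟩
    simp only at hle'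
    have heq := eq_of_le_of_card_ge hle hle'
    rw [← map_comap_eq_self_of_surjective hsurj M, ← heq, QuotientGroup.map_mk'_self]
  obtain ⟨hPn, -, hidx⟩ := Cfsg.Agent.S0949.result P' 2 le_rfl e' hO
  haveI := hPn
  have hperf' : ⁅(⊤ : Subgroup (H ⧸ N)), (⊤ : Subgroup (H ⧸ N))⁆ = ⊤ := by
    rw [← map_top_of_surjective π hsurj, ← map_commutator, hperf]
  have htop : (P' : Subgroup (H ⧸ N)) = ⊤ := by
    rw [eq_top_iff, ← hperf', commutator_le]
    intro a _ b _
    rcases hidx with h | h
    · rw [index_eq_one] at h; rw [h]; exact mem_top _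
    · haveI : Fact (Nat.Prime 3) := ⟨by norm_num⟩
      haveI : IsCyclic ((H ⧸ N) ⧸ (P' : Subgroup (H ⧸ N))) := isCyclic_of_prime_card (p := 3) h
      rw [← QuotientGroup.eq_one_iff, commutatorElement_def]
      simp only [QuotientGroup.mk_mul, QuotientGroup.mk_inv]
      rw [mul_inv_eq_one, mul_inv_eq_iff_eq_mul]
      exact IsCyclic.isMulCommutative.is_comm.comm _ _
  have hab : ∀ a b : H ⧸ N, a * b = b * a := fun a b => by
    have h := e'.injective (a₁ := ⟨a, htop ▸ mem_top a⟩ * ⟨b, htop ▸ mem_top b⟩)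
      (a₂ := ⟨b, htop ▸ mem_top b⟩ * ⟨a, htop ▸ mem_top a⟩) (by rw [map_mul, map_mul, mul_comm])
    exact congrArg Subtype.val h
  have hbot : (⊤ : Subgroup (H ⧸ N)) = ⊥ := by
    rw [← hperf', commutator_eq_bot_iff_le_centralizer]
    intro a _
    exact mem_centralizer_iff.mpr fun b _ => hab b a
  have h16 : Nat.card (P' : Subgroup (H ⧸ N)) = 16 := by
    rw [Nat.card_congr e'.toEquiv, Nat.card_congr Multiplicative.toAdd, Nat.card_prod, Nat.card_zmod]
    norm_num
  rw [htop, hbot, card_bot] at h16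
  omega

end Cfsg.CyclicFourFixed1914
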