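import Cfsg.Agent.CyclicFourFixed1914.CaseII
import Cfsg.Agent.CyclicFourFixed1914.Homocyclic

/-!
# Structure of the abelian half
-/

namespace Cfsg.CyclicFourFixed1914

open Subgroup Cfsg.Agent.PGroupsCyclic Cfsg.Agent.PGroupsBasic Cfsg.FourGroupRank1915

variable {G : Type*} [Group G] [Finite G]

set_option maxHeartbeats 800000
set_option linter.unusedSectionVars false

namespace Half

variable {A P S : Subgroup G} {t w z e : G} {L : Subgroup G}

theorem EL (h : Half A P S t w z e L) : h.E ≤ L := fun x hx => by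
  have hz : z ∈ L := h.w2 ▸ pow_mem h.wL 2
  rcases h.mem_E.1 hx with rfl | rfl | rfl | rfl
  exacts [one_mem _, hz, h.eL, mul_mem hz h.eL]

theorem inv_E (h : Half A P S t w z e L) {x : G} (hx : x ∈ L) : t * x * t * x ∈ h.E :=
  h.mem_E.2 (h.inverted x hx)

theorem commE' (h : Half A P S t w z e L) {x ε : G} (hx : x ∈ L) (hε : ε ∈ h.E) :
    Commute x ε := by
  have h1 : Commute x z := h.zP x (h.memP (h.leS hx))
  rcases h.mem_E.1 hε with e1 | e1 | e1 | e1 <;> rw [e1]
  exacts [Commute.one_right _, h1, h.commE x hx, h1.mul_right (h.commE x hx)]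

theorem conj_mem (h : Half A P S t w z e L) {g x : G} (hg : g ∈ S) (hx : x ∈ L) :
    g * x * g⁻¹ ∈ L := by
  by_cases hgL : g ∈ L
  · exact mul_mem (mul_mem hgL hx) (inv_mem hgL)
  by_contra hc
  have h1 := h.idx _ (mul_mem (mul_mem hg (h.leS hx)) (inv_mem hg)) hc g hg hgL
  rw [inv_mul_cancel_right] at h1
  exact hgL ((mul_mem_cancel_right hx).1 h1)

theorem sq_mem (h : Half A P S t w z e L) {g : G} (hg : g ∈ S) : g ^ 2 ∈ L := by
  rw [pow_two]
  by_cases hgL : g ∈ L
  · exact mul_mem hgL hgL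
  · exact h.idx g hg hgL g hg hgL

/-- `j` generates `L` modulo the four group. -/
structure Gen (h : Half A P S t w z e L) (j : G) : Prop where
  mem : j ∈ L
  gen : ∀ x ∈ L, ∃ i : ℤ, ∃ ε ∈ h.E, x = j ^ i * ε

theorem exists_gen (h : Half A P S t w z e L) : ∃ j, h.Gen j := by
  have : Fact (Nat.Prime 2) := ⟨Nat.prime_two⟩
  let E' : Subgroup L := h.E.subgroupOf L
  haveI hE'n : E'.Normal := ⟨fun g hg p => h.E_conj (h.memP (h.leS p.2)) hg⟩
  have hL2 : IsPGroup 2 L := h.frame.two.to_le h.leS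
  have hθ : ∀ a : L, (QuotientGroup.mk (⟨t * a * t, h.tL a a.2⟩ : L) : L ⧸ E') =
      (QuotientGroup.mk a)⁻¹ := by
    intro a
    rw [eq_inv_iff_mul_eq_one, ← QuotientGroup.mk_mul, QuotientGroup.eq_one_iff]
    exact h.inv_E a.2
  have hc : ∀ a b : L ⧸ E', a * b = b * a := by
    intro a b
    induction a using QuotientGroup.induction_on with
    | H a =>
      induction b using QuotientGroup.induction_on with
      | H b =>
        have h1 := hθ (a * b)
        have h2 : (⟨t * ((a * b : L) : G) * t, h.tL _ (a * b).2⟩ : L) =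
            ⟨t * a * t, h.tL a a.2⟩ * ⟨t * b * t, h.tL b b.2⟩ := by
          ext
          show t * ((a : G) * b) * t = t * a * t * (t * b * t)
          rw [show t * (a : G) * t * (t * b * t) = t * a * (t * t) * b * t by group, h.tt, mul_one]
          group
        rw [h2, QuotientGroup.mk_mul, hθ, hθ, QuotientGroup.mk_mul, mul_inv_rev] at h1
        rw [← inv_inj, mul_inv_rev, mul_inv_rev, h1]
  set wb : L ⧸ E' := QuotientGroup.mk ⟨w, h.wL⟩
  have hwb : wb ^ 2 = 1 := by
    rw [← QuotientGroup.mk_pow, QuotientGroup.eq_one_iff]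
    show w ^ 2 ∈ h.E
    rw [h.w2]; exact h.zE
  have hcyc : IsCyclic (L ⧸ E') := by
    refine isCyclic_of_comm (hL2.to_quotient E') hc (z := wb) ?_
      (orderOf_le_of_pow_eq_one two_pos hwb)
    intro a ha
    induction a using QuotientGroup.induction_on with
    | H a =>
      have h1 : (QuotientGroup.mk a : L ⧸ E')⁻¹ = QuotientGroup.mk a := inv_self_of_sq ha
      have h2 := hθ a
      rw [h1] at h2
      have h3 : a⁻¹ * ⟨t * a * t, h.tL a a.2⟩ ∈ E' := QuotientGroup.eq.mp h2.symm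
      rcases h.lift (h.leS a.2) h3 with e1 | e1
      · have : a ∈ E' := e1
        rw [(QuotientGroup.eq_one_iff a).mpr this]; exact one_mem _
      · have : (QuotientGroup.mk a : L ⧸ E') = wb := by
          refine QuotientGroup.eq.mpr ?_
          show (a : G)⁻¹ * w ∈ h.E
          have h4 := h.E_conj (inv_mem (h.memP h.wS)) (inv_mem e1)
          rwa [mul_inv_rev, inv_inv, show w⁻¹ * (w * (a : G)⁻¹) * w = (a : G)⁻¹ * w by group] at h4
        rw [this]; exact mem_zpowers _
  obtain ⟨g, hg⟩ := hcyc.exists_generator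
  induction g using QuotientGroup.induction_on with
  | H j =>
    refine ⟨j, j.2, fun x hx => ?_⟩
    obtain ⟨i, hi⟩ := mem_zpowers_iff.mp (hg (QuotientGroup.mk ⟨x, hx⟩))
    rw [← QuotientGroup.mk_zpow] at hi
    have h1 : (j ^ i)⁻¹ * ⟨x, hx⟩ ∈ E' := QuotientGroup.eq.mp hi
    exact ⟨i, _, h1, by simp⟩

namespace Gen

variable {h : Half A P S t w z e L} {j : G}

theorem sq (hj : h.Gen j) {x : G} {i : ℤ} {ε : G} (hε : ε ∈ h.E) (hx : x = j ^ i * ε) :
    x ^ 2 = j ^ (2 * i) := by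
  rw [hx, (h.commE' (zpow_mem hj.mem i) hε).mul_pow, h.E_sq hε, mul_one, mul_comm 2 i, zpow_mul]
  exact (zpow_natCast (j ^ i) 2).symm

theorem comm (hj : h.Gen j) {x y : G} (hx : x ∈ L) (hy : y ∈ L) : Commute x y := by
  obtain ⟨i, ε, hε, rfl⟩ := hj.gen x hx
  obtain ⟨k, η, hη, rfl⟩ := hj.gen y hy
  exact ((((Commute.refl j).zpow_zpow i k).mul_right (h.commE' (zpow_mem hj.mem i) hη))).mul_left
    ((h.commE' (zpow_mem hj.mem k) hε).symm.mul_right
      (comm_of_isMulCommutative (klein_elementary h.four).1 hε hη))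

theorem sq_mem_zpowers (hj : h.Gen j) {x : G} (hx : x ∈ L) : x ^ 2 ∈ zpowers j := by
  obtain ⟨i, ε, hε, hxe⟩ := hj.gen x hx
  rw [hj.sq hε hxe]; exact zpow_mem (mem_zpowers j) _

theorem z_mem (hj : h.Gen j) : z ∈ zpowers j := h.w2 ▸ hj.sq_mem_zpowers h.wL

theorem order (hj : h.Gen j) : ∃ n : ℕ, orderOf j = 2 ^ (n + 1) ∧ j ^ (2 ^ n) = z := by
  have : Fact (Nat.Prime 2) := ⟨Nat.prime_two⟩
  obtain ⟨k, hk⟩ := IsPGroup.iff_orderOf.mp h.frame.two ⟨j, h.leS hj.mem⟩
  rw [orderOf_mk] at hk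
  rcases k with _ | n
  · exfalso
    rw [pow_zero, orderOf_eq_one_iff] at hk
    have := hj.z_mem
    rw [hk, zpowers_one_eq_bot, mem_bot] at this
    exact h.z1 this
  · exact ⟨n, hk, ((sq_eq_one_or_eq hk hj.z_mem h.z2).resolve_left h.z1).symm⟩

theorem inv_cases (hj : h.Gen j) {y : G} (hy : y ∈ zpowers j) (hy2 : y ^ 2 = 1) : y = 1 ∨ y = z := by
  obtain ⟨n, hn, hz⟩ := hj.order
  exact hz ▸ sq_eq_one_or_eq hn hy hy2

theorem e_notMem (hj : h.Gen j) : e ∉ zpowers j := fun he => by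
  rcases hj.inv_cases he h.e2 with e1 | e1
  · exact h.four.2.1 e1
  · exact h.four.2.2.1 e1.symm

theorem E_inter (hj : h.Gen j) {ε : G} (hε : ε ∈ h.E) (hεj : ε ∈ zpowers j) : ε = 1 ∨ ε = z :=
  hj.inv_cases hεj (h.E_sq hε)

theorem inv_mem_E (hj : h.Gen j) {x : G} (hx : x ∈ L) (hx2 : x ^ 2 = 1) : x ∈ h.E := by
  obtain ⟨i, ε, hε, hxe⟩ := hj.gen x hx
  have h1 := hj.sq hε hxe
  rw [hx2, mul_comm, zpow_mul] at h1
  rcases hj.inv_cases (zpow_mem (mem_zpowers j) i) (by exact_mod_cast h1.symm) with e1 | e1 <;>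
    rw [hxe, e1]
  · rwa [one_mul]
  · exact mul_mem h.zE hε

/-- `t` inverts the generator up to `z`. -/
theorem t_conj (hj : h.Gen j) : ∃ η, (η = 1 ∨ η = z) ∧ t * j * t = η * j⁻¹ := by
  refine ⟨t * j * t * j, h.E_fixed (h.inv_E hj.mem) ?_, by group⟩
  calc t * (t * j * t * j) * t = (t * t) * j * (t * j * t) := by group
    _ = j * (t * j * t) := by rw [h.tt, one_mul]
    _ = t * j * t * j := (hj.comm hj.mem (h.tL j hj.mem)).eq

/-- The cyclic subgroup `⟨j⟩` is normal in `S`. -/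
theorem conj_mem (hj : h.Gen j) {g y : G} (hg : g ∈ S) (hy : y ∈ zpowers j) :
    g * y * g⁻¹ ∈ zpowers j := by
  obtain ⟨l, rfl⟩ := mem_zpowers_iff.mp hy
  rw [← conj_zpow]
  refine zpow_mem ?_ l
  by_cases hgL : g ∈ L
  · rw [(hj.comm hgL hj.mem).eq, mul_inv_cancel_right]; exact mem_zpowers j
  obtain ⟨m, ε, hε, hy'⟩ := hj.gen _ (h.conj_mem hg hj.mem)
  obtain ⟨η, hη, htj⟩ := hj.t_conj
  -- `m` is odd
  have hm : Odd m := by
    by_contra hme
    obtain ⟨k, hk⟩ := Int.not_odd_iff_even.1 hme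
    obtain ⟨i, δ, hδ, hwi⟩ := hj.gen w h.wL
    have hz : z = j ^ (2 * i) := h.w2 ▸ hj.sq hδ hwi
    apply h.z1
    calc z = g * z * g⁻¹ := by rw [h.zP g (h.memP hg), mul_inv_cancel_right]
      _ = (g * j * g⁻¹) ^ (2 * i) := by rw [conj_zpow, ← hz]
      _ = (j ^ (2 * i)) ^ m := by
        rw [hy', zpow_mul, show (j ^ m * ε) ^ (2 : ℤ) = j ^ (2 * m) by
          rw [← hj.sq hε rfl]; exact (zpow_ofNat _ 2), ← zpow_mul, ← zpow_mul]
        ring_nf
      _ = 1 := by
        rw [← hz, hk, zpow_add, ← (Commute.refl z).mul_zpow, sq_two h.z2, one_zpow]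
  obtain ⟨x, hx, htg⟩ : ∃ x ∈ L, t * g * t = g * x := by
    refine ⟨g⁻¹ * (t * g * t), h.idx _ (inv_mem hg) (fun e1 => hgL (inv_mem_iff.1 e1)) _
      (h.conjS hg) fun e1 => hgL ?_, by group⟩
    have := h.tL _ e1
    rwa [show t * (t * g * t) * t = (t * t) * g * (t * t) by group, h.tt, one_mul, mul_one] at this
  have hηE : η ∈ h.E := by rcases hη with e1 | e1 <;> rw [e1]; exacts [one_mem _, h.zE]
  have hηg : g * η * g⁻¹ = η := by
    rcases hη with e1 | e1 <;> rw [e1]
    · simp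
    · rw [h.zP g (h.memP hg), mul_inv_cancel_right]
  have h1 : t * (g * j * g⁻¹) * t = η * (g * j * g⁻¹)⁻¹ := by
    calc t * (g * j * g⁻¹) * t = (t * g * t) * (t * j * t) * (t * g * t)⁻¹ := by
          rw [mul_inv_rev, mul_inv_rev, h.tinv]
          calc t * (g * j * g⁻¹) * t = t * g * (t * t) * j * (t * t) * g⁻¹ * t := by
                rw [h.tt, mul_one]; group
            _ = _ := by group
      _ = g * (x * (η * j⁻¹) * x⁻¹) * g⁻¹ := by rw [htg, htj]; group
      _ = g * η * g⁻¹ * (g * j * g⁻¹)⁻¹ := by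
        rw [(hj.comm hx (mul_mem (h.EL hηE) (inv_mem hj.mem))).eq, mul_inv_cancel_right]; group
      _ = _ := by rw [hηg]
  -- the four group part is fixed by `t`
  have hsplit : t * (j ^ m * ε) * t = (t * j * t) ^ m * (t * ε * t) := by
    have : (t * j * t) ^ m = t * j ^ m * t := by
      conv_lhs => arg 1; arg 2; rw [← h.tinv]
      rw [conj_zpow, h.tinv]
    rw [this, show t * j ^ m * t * (t * ε * t) = t * j ^ m * (t * t) * ε * t by group, h.tt, mul_one]
    group
  have hηm : η ^ m = η := by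
    rcases hη with e1 | e1 <;> rw [e1]
    · exact one_zpow m
    · obtain ⟨k, rfl⟩ := hm
      rw [zpow_add_one, zpow_mul, show z ^ (2 : ℤ) = 1 by exact_mod_cast h.z2, one_zpow, one_mul]
  have hεt : t * ε * t = ε := by
    rw [hy', hsplit, htj, (h.commE' (inv_mem hj.mem) hηE).symm.mul_zpow, hηm, mul_inv_rev,
      inv_self_of_sq (h.E_sq hε), ← (h.commE' (inv_mem (zpow_mem hj.mem m)) hε).eq, inv_zpow] at h1
    simp only [mul_assoc] at h1 ⊢
    exact mul_left_cancel (mul_left_cancel h1)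
  rw [hy']
  rcases h.E_fixed hε hεt with e1 | e1 <;> rw [e1]
  · rw [mul_one]; exact zpow_mem (mem_zpowers j) m
  · exact mul_mem (zpow_mem (mem_zpowers j) m) hj.z_mem

end Gen

/-- `e` is not conjugate to `z` in `A`. -/
theorem not_conj_z (h : Half A P S t w z e L) {a : G} (ha : a ∈ A) : a * e * a⁻¹ ≠ z := by
  intro haz
  have : Fact (Nat.Prime 2) := ⟨Nat.prime_two⟩
  obtain ⟨j, hj⟩ := h.exists_gen
  set Q : Subgroup G := L.map (MulAut.conj a).toMonoidHom
  have hQA : Q ≤ A := by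
    rintro _ ⟨x, hx, rfl⟩
    exact mul_mem (mul_mem ha (h.memA (h.leS hx))) (inv_mem ha)
  have hQz : ∀ q ∈ Q, q * z = z * q := by
    rintro _ ⟨x, hx, rfl⟩
    simp only [MulEquiv.coe_toMonoidHom, MulAut.conj_apply]
    rw [← haz, show a * x * a⁻¹ * (a * e * a⁻¹) = a * (x * e) * a⁻¹ by group, h.commE x hx]; group
  obtain ⟨b, hb, hbz, hbQ⟩ := h.frame.dom_centralizer (fun y hy => h.zP y (h.memP hy)) hQA
    ((h.frame.two.to_le h.leS).map _) hQz
  set g := b * a with hg
  have hgA : g ∈ A := mul_mem hb ha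
  have hgS : ∀ x ∈ L, g * x * g⁻¹ ∈ S := fun x hx => by
    have := hbQ _ ⟨x, hx, rfl⟩
    rwa [MulEquiv.coe_toMonoidHom, MulAut.conj_apply, show b * (a * x * a⁻¹) * b⁻¹ = g * x * g⁻¹ by
      rw [hg]; group] at this
  have hge : g * e * g⁻¹ = z := by
    rw [hg, show b * a * e * (b * a)⁻¹ = b * (a * e * a⁻¹) * b⁻¹ by group, haz, hbz,
      mul_inv_cancel_right]
  have hgz : g * z * g⁻¹ ≠ z := fun e1 => h.four.2.2.1
    (mul_left_cancel (mul_right_cancel (e1.trans hge.symm)))
  have hgz1 : g * z * g⁻¹ ≠ 1 := mt conj_eq_one_iff.1 h.z1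
  have hgz2 : (g * z * g⁻¹) ^ 2 = 1 := by rw [conj_pow, h.z2, mul_one, mul_inv_cancel]
  obtain ⟨i, δ, hδ, hwi⟩ := hj.gen w h.wL
  have hzi : z = j ^ (2 * i) := h.w2 ▸ hj.sq hδ hwi
  rcases Int.even_or_odd i with ⟨l, rfl⟩ | ⟨l, rfl⟩
  · -- `z` is a fourth power in `L`
    have h1 := h.sq_mem (hgS _ (zpow_mem hj.mem l))
    have h2 := hj.sq_mem_zpowers h1
    have h3 : ((g * j ^ l * g⁻¹) ^ 2) ^ 2 = g * z * g⁻¹ := by
      rw [← pow_mul, conj_pow, hzi, ← zpow_natCast, ← zpow_mul]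
      push_cast; ring_nf
    rw [h3] at h2
    rcases hj.inv_cases h2 hgz2 with e1 | e1
    · exact hgz1 e1
    · exact hgz e1
  · obtain ⟨n, hn, hjn⟩ := hj.order
    have hj4 : j ^ 4 = 1 := by
      have h4 : j ^ (2 * (2 * (2 * l + 1))) = 1 := by
        rw [mul_comm, zpow_mul, ← hzi]; exact_mod_cast h.z2
      rw [← orderOf_dvd_iff_zpow_eq_one, hn] at h4
      push_cast at h4
      rw [← orderOf_dvd_iff_pow_eq_one, hn]
      rw [show 2 * (2 * (2 * l + 1)) = 4 * (2 * l + 1) by ring] at h4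
      have := (IsCoprime.pow_left ⟨-l, 1, by ring⟩ : IsCoprime ((2 : ℤ) ^ (n + 1)) (2 * l + 1)
        ).dvd_of_dvd_mul_right h4
      exact_mod_cast this
    have hj4' : j ^ (4 : ℤ) = 1 := by exact_mod_cast hj4
    have hj2 : j ^ 2 = z := by
      rw [hzi, show 2 * (2 * l + 1) = 4 * l + ((2 : ℕ) : ℤ) by push_cast; ring, zpow_add, zpow_mul,
        hj4', one_zpow, one_mul, zpow_natCast]
    set k := g * w * g⁻¹ with hk
    have hkS : k ∈ S := hgS w h.wL
    have hk2 : k ^ 2 = g * z * g⁻¹ := by rw [hk, conj_pow, h.w2]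
    have hk2L := h.sq_mem hkS
    have hk2E : k ^ 2 ∈ h.E := hj.inv_mem_E hk2L (hk2 ▸ hgz2)
    have hk2e : k ^ 2 = e ∨ k ^ 2 = z * e := by
      rcases h.mem_E.1 hk2E with e1 | e1 | e1 | e1
      · exact absurd (hk2 ▸ e1) hgz1
      · exact absurd (hk2 ▸ e1) hgz
      · exact Or.inl e1
      · exact Or.inr e1
    have hk2j : k ^ 2 ∉ zpowers j := fun e1 => by
      rcases hj.E_inter hk2E e1 with e2 | e2
      · exact hgz1 (hk2 ▸ e2)
      · exact hgz (hk2 ▸ e2)
    have hkL : k ∉ L := fun e1 => hk2j (hj.sq_mem_zpowers e1)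
    have hkz : Commute k z := h.zP k (h.memP hkS)
    have hke : Commute k e := by
      rcases hk2e with e1 | e1
      · exact e1 ▸ (Commute.self_pow k 2)
      · have he : e = z * k ^ 2 := by rw [e1, ← mul_assoc, sq_two h.z2, one_mul]
        rw [he]
        exact hkz.mul_right (Commute.self_pow k 2)
    have hkE : ∀ ε ∈ h.E, Commute k ε := fun ε hε => by
      rcases h.mem_E.1 hε with e1 | e1 | e1 | e1 <;> rw [e1]
      exacts [Commute.one_right _, hkz, hke, hkz.mul_right hke]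
    set x := k⁻¹ * (t * k * t) with hx
    have hxL : x ∈ L := by
      refine h.idx _ (inv_mem hkS) (fun e1 => hkL (inv_mem_iff.1 e1)) _ (h.conjS hkS) fun e1 => hkL ?_
      have := h.tL _ e1
      rwa [show t * (t * k * t) * t = (t * t) * k * (t * t) by group, h.tt, one_mul, mul_one] at this
    have hxE : x ∉ h.E := fun e1 => by
      rcases h.lift hkS e1 with e2 | e2
      · exact hkL (h.EL e2)
      · exact hkL ((mul_mem_cancel_right (inv_mem h.wL)).1 (h.EL e2))
    obtain ⟨m, ε, hε, hxm⟩ := hj.gen x hxL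
    have hmo : Odd m := by
      by_contra hme
      obtain ⟨q, rfl⟩ := Int.not_odd_iff_even.1 hme
      apply hxE
      rw [hxm, ← two_mul, zpow_mul, show j ^ (2 : ℤ) = z by exact_mod_cast hj2]
      exact mul_mem (zpow_mem h.zE q) hε
    have hx2 : x ^ 2 = z := by
      obtain ⟨q, rfl⟩ := hmo
      rw [hj.sq hε hxm, show 2 * (2 * q + 1) = 4 * q + ((2 : ℕ) : ℤ) by push_cast; ring, zpow_add,
        zpow_mul, hj4', one_zpow, one_mul, zpow_natCast, hj2]
    have hte : t * k ^ 2 * t = k ^ 2 * z := by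
      rcases hk2e with e1 | e1 <;> rw [e1]
      · exact h.te
      · rw [show t * (z * e) * t = t * z * (e * t) by group, h.tz,
          show z * t * (e * t) = z * (t * e * t) by group, h.te, mul_assoc]
    have hkx : Commute k x := by
      have h1 : t * k ^ 2 * t = k * x * (k * x) := by
        rw [hx, mul_inv_cancel_left, pow_two,
          show t * k * t * (t * k * t) = t * k * (t * t) * k * t by group, h.tt, mul_one]
        group
      rw [hte, show k * x * (k * x) = k ^ 2 * (k⁻¹ * x * k * x) by rw [pow_two]; group] at h1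
      have h2 := mul_left_cancel h1
      rw [← hx2, pow_two] at h2
      have h3 : x = k⁻¹ * x * k := mul_right_cancel h2
      show k * x = x * k
      calc k * x = k * (k⁻¹ * x * k) := by rw [← h3]
        _ = x * k := by group
    have hkj : Commute k j := by
      have h1 : Commute k (j ^ m) := by
        have : j ^ m = x * ε := by rw [hxm, mul_assoc, sq_two (h.E_sq hε), mul_one]
        rw [this]; exact hkx.mul_right (hkE ε hε)
      have h2 := h1.zpow_right m
      obtain ⟨q, rfl⟩ := hmo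
      rwa [← zpow_mul, show (2 * q + 1) * (2 * q + 1) = 4 * (q * q + q) + 1 by ring, zpow_add,
        zpow_mul, hj4', one_zpow, one_mul, zpow_one] at h2
    -- `S` is homocyclic
    have hjk2 : Commute j (k ^ 2) := hkj.symm.pow_right 2
    have hk4 : k ^ (4 : ℤ) = 1 := by
      rw [show (4 : ℤ) = ((2 * 2 : ℕ) : ℤ) by rfl, zpow_natCast, pow_mul, hk2, hgz2]
    let φ : Multiplicative (ZMod (2 ^ 2) × ZMod (2 ^ 2)) →* S :=
      { toFun := fun p => ⟨k ^ (p.toAdd.1.val : ℤ) * j ^ (p.toAdd.2.val : ℤ),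
          mul_mem (zpow_mem hkS _) (zpow_mem (h.leS hj.mem) _)⟩
        map_one' := by ext; simp
        map_mul' := fun p q => by
          have key : ∀ (y : G), y ^ (4 : ℤ) = 1 → ∀ c d : ZMod (2 ^ 2),
              y ^ ((c + d).val : ℤ) = y ^ (c.val : ℤ) * y ^ (d.val : ℤ) := by
            intro y hy c d
            rw [← zpow_add, zpow_eq_iff_dvd]
            refine Int.dvd_trans (Int.natCast_dvd_natCast.mpr
              (orderOf_dvd_of_pow_eq_one (n := 4) (by exact_mod_cast hy))) ?_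
            rw [ZMod.val_add]
            push_cast
            exact ⟨-(((c.val : ℤ) + d.val) / 4), by
              have := Int.emod_add_mul_ediv ((c.val : ℤ) + d.val) 4
              linarith⟩
          ext
          show k ^ (((p * q).toAdd.1).val : ℤ) * j ^ (((p * q).toAdd.2).val : ℤ) = _
          rw [toAdd_mul, Prod.fst_add, Prod.snd_add, key k hk4, key j hj4']
          show _ = k ^ _ * j ^ _ * (k ^ _ * j ^ _)
          rw [mul_assoc, ← mul_assoc (k ^ (q.toAdd.1.val : ℤ)), (hkj.zpow_zpow _ _).eq]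
          group }
    have hφi : Function.Injective φ := by
      rw [injective_iff_map_eq_one]
      intro p hp
      have hp' : k ^ (p.toAdd.1.val : ℤ) * j ^ (p.toAdd.2.val : ℤ) = 1 := congrArg Subtype.val hp
      have hlt1 := ZMod.val_lt p.toAdd.1
      have hlt2 := ZMod.val_lt p.toAdd.2
      norm_num at hlt1 hlt2
      have hkmem : k ^ (p.toAdd.1.val : ℤ) ∈ zpowers j := by
        rw [eq_inv_of_mul_eq_one_left hp']; exact inv_mem (zpow_mem (mem_zpowers j) _)
      have ha : p.toAdd.1.val = 0 := by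
        by_contra hne
        rw [zpow_natCast] at hkmem
        interval_cases (p.toAdd.1.val : ℕ)
        · exact hne rfl
        · exact hkL (zpowers_le.mpr hj.mem (by simpa using hkmem))
        · exact hk2j hkmem
        · have h3 : k ^ 3 = k ^ 2 * k := pow_succ k 2
          rw [h3] at hkmem
          exact hkL ((mul_mem_cancel_left hk2L).1 (zpowers_le.mpr hj.mem hkmem))
      rw [ha, Nat.cast_zero, zpow_zero, one_mul, ← orderOf_dvd_iff_zpow_eq_one] at hp'
      have ho : orderOf j = 4 := by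
        refine orderOf_eq_prime_pow (p := 2) (n := 1) ?_ (by exact hj4)
        rw [pow_one, hj2]; exact h.z1
      rw [ho] at hp'
      have hb : p.toAdd.2.val = 0 := by omega
      have : p.toAdd = 0 := Prod.ext ((ZMod.val_eq_zero _).mp ha) ((ZMod.val_eq_zero _).mp hb)
      simpa using this
    have hφs : Function.Surjective φ := by
      have hr : ∀ y : G, y ∈ L → ∃ a b : ℤ, y = k ^ a * j ^ b := by
        intro y hy
        obtain ⟨q, η, hη, rfl⟩ := hj.gen y hy
        obtain ⟨a, b, hab⟩ : ∃ a b : ℤ, η = k ^ a * j ^ b := by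
          have hk2' : k ^ (2 : ℤ) = k ^ 2 := zpow_ofNat k 2
          have hj2' : j ^ (2 : ℤ) = z := by rw [zpow_ofNat]; exact hj2
          rcases h.mem_E.1 hη with e1 | e1 | e1 | e1 <;> rw [e1]
          · exact ⟨0, 0, by simp⟩
          · exact ⟨0, 2, by rw [hj2']; simp⟩
          · rcases hk2e with e2 | e2
            · exact ⟨2, 0, by rw [hk2', e2]; simp⟩
            · exact ⟨2, 2, by
                rw [hk2', e2, hj2', mul_assoc, h.ez, ← mul_assoc, sq_two h.z2, one_mul]⟩
          · rcases hk2e with e2 | e2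
            · exact ⟨2, 2, by rw [hk2', e2, hj2', h.ez]⟩
            · exact ⟨2, 0, by rw [hk2', e2]; simp⟩
        exact ⟨a, q + b, by
          rw [hab, zpow_add, ← mul_assoc, ← mul_assoc, (hkj.zpow_zpow a q).eq]⟩
      intro y
      obtain ⟨a, b, hy⟩ : ∃ a b : ℤ, (y : G) = k ^ a * j ^ b := by
        by_cases hyL : (y : G) ∈ L
        · exact hr _ hyL
        · obtain ⟨a, b, hab⟩ := hr _ (h.idx _ (inv_mem hkS) (fun e1 => hkL (inv_mem_iff.1 e1))
            y y.2 hyL)
          exact ⟨1 + a, b, by rw [zpow_add, zpow_one, mul_assoc, ← hab, mul_inv_cancel_left]⟩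
      refine ⟨Multiplicative.ofAdd ((a : ZMod (2 ^ 2)), (b : ZMod (2 ^ 2))), Subtype.ext ?_⟩
      have key : ∀ (c : G) (d : ℤ), c ^ (4 : ℤ) = 1 → c ^ (((d : ZMod (2 ^ 2)).val : ℤ)) = c ^ d := by
        intro c d hc
        rw [ZMod.val_intCast]
        conv_rhs => rw [← Int.emod_add_mul_ediv d 4, zpow_add, zpow_mul, hc, one_zpow, mul_one]
        norm_num
      show k ^ _ * j ^ _ = (y : G)
      rw [hy, toAdd_ofAdd, key k a hk4, key j b hj4']
    obtain ⟨P0, hP0⟩ := h.frame.exists_sylow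
    exact no_homocyclic_sylow h.frame.perf P0 (((MulEquiv.subgroupCongr hP0).trans
      (subgroupOfEquivOfLe h.frame.le)).trans (MulEquiv.ofBijective φ ⟨hφi, hφs⟩).symm)

end Half

end Cfsg.CyclicFourFixed1914
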