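import Cfsg.Agent.CyclicFourFixed1914.Final

/-!
# An involution with fixed point Sylow subgroups cyclic of order four
-/

namespace Cfsg.CyclicFourFixed1914

open Subgroup Cfsg.Agent.PGroupsCyclic Cfsg.Agent.PGroupsBasic Cfsg.FourGroupRank1915

variable {G : Type*} [Group G] [Finite G]

set_option maxHeartbeats 800000
set_option linter.unusedSectionVars false

theorem no_four {A : Subgroup G} (hperf : ⁅(⊤ : Subgroup A), (⊤ : Subgroup A)⁆ = ⊤) {t : G}
    (ht : orderOf t = 2) (htA : t ∈ normalizer (A : Set G))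
    (hC : ∀ R : Sylow 2 ↥(A ⊓ centralizer ({t} : Set G)), IsCyclic R ∧ Nat.card R = 4)
    {a₀ b₀ : G} (ha₀ : a₀ ∈ A) (hb₀ : b₀ ∈ A) (h₀ : Four a₀ b₀) : False := by
  classical
  have : Fact (Nat.Prime 2) := ⟨Nat.prime_two⟩
  have ht2 : t ^ 2 = 1 := ht ▸ pow_orderOf_eq_one t
  have ht1 : t ≠ 1 := by intro e; rw [e, orderOf_one] at ht; omega
  set C := A ⊓ centralizer ({t} : Set G) with hCdef
  have hmemC : ∀ x, x ∈ C ↔ x ∈ A ∧ x * t = t * x := fun x => by
    simp only [hCdef, mem_inf, mem_centralizer_singleton_iff]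
  -- no four group of `A` commutes with `t`
  have hsmall : ∀ a ∈ A, ∀ b ∈ A, Four a b → t * a = a * t → t * b = b * t → False := by
    intro a ha b hb hab hta htb
    set K := klein hab
    have hKC : K ≤ C := fun x hx => by
      have haC : a ∈ C := (hmemC a).2 ⟨ha, hta.symm⟩
      have hbC : b ∈ C := (hmemC b).2 ⟨hb, htb.symm⟩
      rcases mem_klein.1 hx with rfl | rfl | rfl | rfl
      exacts [one_mem _, haC, hbC, mul_mem haC hbC]
    have hK2 : IsPGroup 2 K := fun g =>
      ⟨1, Subtype.ext (by simpa using (klein_elementary hab).2 _ g.2)⟩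
    obtain ⟨R, hR⟩ := (hK2.comap_subtype (K := C)).exists_le_sylow
    obtain ⟨g, hg⟩ := (hC R).1.exists_generator
    have hg4 : orderOf g = 2 ^ (1 + 1) := by
      rw [orderOf_eq_card_of_forall_mem_zpowers hg, (hC R).2]; norm_num
    have hmem : ∀ x ∈ K, x = 1 ∨ x = (((g : C) : G)) ^ 2 := by
      intro x hx
      let x' : (R : Subgroup C) := ⟨⟨x, hKC hx⟩, hR hx⟩
      rcases sq_eq_one_or_eq hg4 (hg x') (Subtype.ext (Subtype.ext (by
        simpa [x'] using (klein_elementary hab).2 x hx))) with e | e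
      · exact Or.inl (congrArg (fun u : (R : Subgroup C) => ((u : C) : G)) e)
      · rw [pow_one] at e
        exact Or.inr (congrArg (fun u : (R : Subgroup C) => ((u : C) : G)) e)
    obtain ⟨ha1, hb1, hne, -⟩ := id hab
    exact hne (((hmem a (by simp [K, mem_klein])).resolve_left ha1).trans
      ((hmem b (by simp [K, mem_klein])).resolve_left hb1).symm)
  set H := A ⊔ zpowers t with hH
  have hHA : H ≤ normalizer (A : Set G) := sup_le le_normalizer (zpowers_le.mpr htA)
  have hnorm : ∀ h ∈ H, ∀ a ∈ A, h * a * h⁻¹ ∈ A := fun h hh a ha =>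
    ((mem_normalizer_iff.mp (hHA hh)) a).mp ha
  have htinv : t⁻¹ = t := inv_self_of_sq ht2
  have htt : t * t = 1 := sq_two ht2
  have hconjt : ∀ a ∈ A, t * a * t ∈ A := fun a ha => by
    simpa [htinv] using hnorm t (mem_sup_right (mem_zpowers t)) a ha
  have hcos : ∀ g ∈ H, g ∈ A ∨ t * g ∈ A := by
    let Au : Subgroup G :=
      { carrier := {g | g ∈ A ∨ t * g ∈ A}
        one_mem' := Or.inl (one_mem _)
        mul_mem' := by
          intro g g' hg hg'
          rcases hg with hg | hg <;> rcases hg' with hg' | hg'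
          · exact Or.inl (mul_mem hg hg')
          · refine Or.inr ?_
            have := mul_mem (hconjt g hg) hg'
            rwa [show t * g * t * (t * g') = t * g * (t * t) * g' by group, htt, mul_one,
              mul_assoc] at this
          · exact Or.inr (by rw [← mul_assoc]; exact mul_mem hg hg')
          · refine Or.inl ?_
            have := mul_mem (hconjt _ hg) hg'
            rwa [show t * (t * g) * t * (t * g') = (t * t) * g * (t * t) * g' by group, htt, one_mul,
              mul_one] at this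
        inv_mem' := by
          intro g hg
          rcases hg with hg | hg
          · exact Or.inl (inv_mem hg)
          · refine Or.inr ?_
            have := hconjt _ (inv_mem hg)
            rw [mul_inv_rev, htinv] at this
            rwa [show t * (g⁻¹ * t) * t = t * g⁻¹ * (t * t) by group, htt, mul_one] at this }
    have hle : H ≤ Au := sup_le (fun g hg => Or.inl hg) (zpowers_le.mpr (Or.inr (by
      rw [htt]; exact one_mem _)))
    exact fun g hg => hle hg
  -- choose `P` containing `t` and a Sylow subgroup of `C`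
  obtain ⟨R⟩ : Nonempty (Sylow 2 C) := inferInstance
  obtain ⟨g, hg⟩ := (hC R).1.exists_generator
  have hg4 : orderOf g = 2 ^ (1 + 1) := by
    rw [orderOf_eq_card_of_forall_mem_zpowers hg, (hC R).2]; norm_num
  set w : G := ((g : C) : G) with hwdef
  have hw4 : orderOf w = 2 ^ (1 + 1) := by
    rw [hwdef, Subgroup.orderOf_coe, Subgroup.orderOf_coe, hg4]
  obtain ⟨hwA, hwt⟩ := (hmemC w).1 (g : C).2
  let B : Subgroup G := zpowers w ⊔ zpowers t
  have hBH : B ≤ H := sup_le (zpowers_le.mpr (mem_sup_left hwA)) le_sup_right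
  have hB2 : IsPGroup 2 B := by
    have hw2 : IsPGroup 2 (zpowers w) := IsPGroup.of_card (n := 2) (by
      rw [Nat.card_zpowers, hw4])
    have htp : IsPGroup 2 (zpowers t) := IsPGroup.of_card (n := 1) (by
      rw [Nat.card_zpowers, ht, pow_one])
    refine hw2.to_sup_of_normal_right' htp ((zpowers_le.mpr ?_).trans
      (centralizer_le_normalizer _))
    rw [mem_centralizer_iff]
    intro y hy
    obtain ⟨i, rfl⟩ := mem_zpowers_iff.mp hy
    exact ((show Commute w t from hwt).zpow_right i).eq.symm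
  obtain ⟨PH, hPH⟩ := (hB2.comap_subtype (K := H)).exists_le_sylow
  set P : Subgroup G := (PH : Subgroup H).map H.subtype with hP
  have hPle : P ≤ H := map_subtype_le _
  have hwP : w ∈ P := ⟨⟨w, hBH (mem_sup_left (mem_zpowers w))⟩,
    hPH (mem_sup_left (mem_zpowers w) : w ∈ B), rfl⟩
  have htP : t ∈ P := ⟨⟨t, hBH (mem_sup_right (mem_zpowers t))⟩,
    hPH (mem_sup_right (mem_zpowers t) : t ∈ B), rfl⟩
  have hP2 : IsPGroup 2 P := PH.isPGroup'.map _
  set S : Subgroup G := A ⊓ P with hS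
  have hS2 : IsPGroup 2 S := hP2.to_le inf_le_right
  have hF : Frame A S := ⟨hperf, inf_le_left, hS2, by
    intro Q hQA hQ
    obtain ⟨R', hR'⟩ := (hQ.comap_of_injective H.subtype H.subtype_injective).exists_le_sylow
    obtain ⟨h, hh⟩ := MulAction.exists_smul_eq H R' PH
    have hmem : ∀ q ∈ Q, (h : G) * q * (h : G)⁻¹ ∈ S := by
      intro q hq
      refine ⟨hnorm _ h.2 _ (hQA hq), ?_⟩
      have hm : (⟨q, mem_sup_left (hQA hq)⟩ : H) ∈ (R' : Subgroup H) := hR' hq
      have h2 : h * ⟨q, mem_sup_left (hQA hq)⟩ * h⁻¹ ∈ (PH : Subgroup H) := by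
        rw [← hh]
        exact ⟨_, hm, rfl⟩
      exact ⟨_, h2, rfl⟩
    rcases hcos h h.2 with e | e
    · exact ⟨h, e, hmem⟩
    · refine ⟨t * h, e, fun q hq => ?_⟩
      obtain ⟨h1, h2⟩ := hmem q hq
      rw [show t * (h : G) * q * (t * (h : G))⁻¹ = t * ((h : G) * q * (h : G)⁻¹) * t⁻¹ by group]
      exact mem_inf.mpr ⟨hnorm t (mem_sup_right (mem_zpowers t)) _ h1,
        mul_mem (mul_mem htP h2) (inv_mem htP)⟩⟩
  obtain ⟨a₁, b₁, ha₁, hb₁, h₁⟩ : ∃ a b, a ∈ S ∧ b ∈ S ∧ Four a b := by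
    obtain ⟨h, -, hh⟩ := hF.dom (klein h₀) (fun x hx => by
      rcases mem_klein.1 hx with rfl | rfl | rfl | rfl
      · exact one_mem _
      · exact ha₀
      · exact hb₀
      · exact mul_mem ha₀ hb₀)
      (fun g => ⟨1, Subtype.ext (by simpa using (klein_elementary h₀).2 _ g.2)⟩)
    exact ⟨_, _, hh a₀ (by simp [mem_klein]), hh b₀ (by simp [mem_klein]), h₀.conj h⟩
  -- `t` is outside `A`
  have htA' : t ∉ A := by
    intro htA'
    have htS : t ∈ S := ⟨htA', htP⟩
    haveI : Nontrivial S := (S.nontrivial_iff_exists_ne_one).2 ⟨t, htS, ht1⟩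
    have hZ : Nontrivial (center S) := hS2.center_nontrivial
    obtain ⟨c, hc⟩ := exists_prime_orderOf_dvd_card' (G := center S) 2 (by
      obtain ⟨k, hk0, hk⟩ := (hS2.to_subgroup _).nontrivial_iff_card.mp hZ
      rw [hk]; exact dvd_pow_self _ hk0.ne')
    have hc2 : ((c : S) : G) ^ 2 = 1 := by
      have := congrArg (fun z : center S => ((z : S) : G)) (hc ▸ pow_orderOf_eq_one c)
      simpa using this
    have hc1 : ((c : S) : G) ≠ 1 := by
      intro h'
      have : c = 1 := by ext; simpa using h'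
      rw [this, orderOf_one] at hc; omega
    have hcS : ∀ y ∈ S, y * ((c : S) : G) = ((c : S) : G) * y := fun y hy =>
      congrArg Subtype.val (mem_center_iff.mp c.2 ⟨y, hy⟩)
    by_cases he : t = ((c : S) : G)
    · exact hsmall a₁ ha₁.1 b₁ hb₁.1 h₁ (by rw [he, hcS a₁ ha₁]) (by rw [he, hcS b₁ hb₁])
    · exact hsmall t htA' _ (c : S).2.1 ⟨ht1, hc1, he, ht2, hc2, hcS t htS⟩ rfl (hcS t htS)
  have hz1 : w ^ 2 ≠ 1 := fun e => by
    have := orderOf_dvd_of_pow_eq_one e
    rw [hw4] at this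
    exact absurd (Nat.le_of_dvd two_pos this) (by norm_num)
  have hwS : w ∈ S := ⟨hwA, hwP⟩
  have hset : Setting A P S t w (w ^ 2) := by
    refine ⟨hF, fun g => Iff.rfl, hP2, ⟨PH, fun g => ?_⟩, htP, hnorm, htA', ht2,
      fun g hg => hcos g (hPle hg), hwS, hwt.symm, rfl, ?_, hz1, ?_, hsmall⟩
    · exact ⟨fun hg => ⟨g, hg, rfl⟩, fun ⟨g', hg', e⟩ => Subtype.ext e ▸ hg'⟩
    · rw [← pow_mul]
      have := pow_orderOf_eq_one w
      rwa [hw4] at this
    · intro x hx hxt
      let T : Subgroup G := S ⊓ centralizer ({t} : Set G)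
      have hTC : T ≤ C := fun y hy =>
        (hmemC y).2 ⟨hy.1.1, mem_centralizer_singleton_iff.mp hy.2⟩
      have hT2 : IsPGroup 2 T := hS2.to_le inf_le_left
      have hRT : (R : Subgroup C) ≤ T.subgroupOf C := fun y hy => by
        obtain ⟨i, hi⟩ := mem_zpowers_iff.mp (hg ⟨y, hy⟩)
        have hy' : (y : G) = w ^ i := by
          rw [hwdef]
          exact (congrArg (fun u : (R : Subgroup C) => ((u : C) : G)) hi).symm.trans (by simp)
        show (y : G) ∈ T
        rw [hy']
        exact zpow_mem (mem_inf.mpr ⟨hwS, mem_centralizer_singleton_iff.mpr hwt⟩) i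
      have heq := R.3 hT2.comap_subtype hRT
      have hxC : x ∈ C := (hmemC x).2 ⟨hx.1, hxt.symm⟩
      have hxR : (⟨x, hxC⟩ : C) ∈ (R : Subgroup C) := by
        have : (⟨x, hxC⟩ : C) ∈ T.subgroupOf C :=
          mem_inf.mpr ⟨hx, mem_centralizer_singleton_iff.mpr hxt.symm⟩
        exact (SetLike.ext_iff.mp heq _).mp this
      obtain ⟨i, hi⟩ := mem_zpowers_iff.mp (hg ⟨_, hxR⟩)
      refine mem_zpowers_iff.mpr ⟨i, ?_⟩
      rw [hwdef]
      exact (by simp : ((g : C) : G) ^ i = (((g ^ i : (R : Subgroup C)) : C) : G)).trans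
        (congrArg (fun u : (R : Subgroup C) => ((u : C) : G)) hi)
  haveI hAP : (A.subgroupOf P).Normal := ⟨fun g hg p => hnorm p (hPle p.2) g hg⟩
  rcases four_or_cyclic_index_two hP2 (A.subgroupOf P) with
    ⟨E, hEn, hES, hE4, hEel⟩ | hcyc | ⟨x, n, hxA, hxn, hxo, hn2, hsq, hidx, hr3⟩
  · obtain ⟨z, hzE, hz1', hzc⟩ : ∃ z ∈ E, z ≠ 1 ∧ ∀ p : P, p * z = z * p := by
      have hne : E ≠ ⊥ := by intro h'; rw [h', card_bot] at hE4; omega
      obtain ⟨z, hz, hz1⟩ := (E ⊓ center P).bot_or_exists_ne_one.resolve_left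
        (Cfsg.Agent.PGroupsBasic.inf_center_ne_bot hP2 hne)
      exact ⟨z, hz.1, hz1, fun p => mem_center_iff.mp hz.2 p⟩
    have hzw : (z : G) = w ^ 2 := by
      refine (hset.fixed_inv ⟨hES hzE, z.2⟩ (congrArg Subtype.val (hzc ⟨t, htP⟩))
        (congrArg Subtype.val (hEel.2 z hzE))).resolve_left fun e => hz1' (Subtype.ext e)
    have : ¬ (E : Set P) ⊆ {1, z} := by
      intro hs
      have := Set.ncard_le_ncard hs (Set.toFinite _)
      rw [Set.ncard_pair (Ne.symm hz1'), ← Nat.card_coe_set_eq] at this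
      simp only [SetLike.coe_sort_coe] at this; omega
    obtain ⟨f, hfE, hf'⟩ := Set.not_subset.1 this
    simp only [Set.mem_insert_iff, Set.mem_singleton_iff, not_or] at hf'
    have hf : Four z f := ⟨hz1', hf'.1, Ne.symm hf'.2, hEel.2 z hzE, hEel.2 f hfE,
      comm_of_isMulCommutative hEel.1 hzE hfE⟩
    have hEk : ∀ y ∈ E, y = 1 ∨ y = z ∨ y = f ∨ y = z * f := by
      have hle : klein hf ≤ E := fun y hy => by
        rcases mem_klein.1 hy with rfl | rfl | rfl | rfl
        · exact one_mem _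
        · exact hzE
        · exact hfE
        · exact mul_mem hzE hfE
      have h4 : 4 ≤ Nat.card (klein hf) := by
        obtain ⟨k, hk⟩ := IsPGroup.iff_card.mp (hP2.to_subgroup (klein hf))
        have := two_lt_card_klein hf
        rw [hk] at this ⊢
        have : 2 ≤ k := by
          by_contra h'; interval_cases k <;> omega
        calc 4 = 2 ^ 2 := rfl
          _ ≤ 2 ^ k := Nat.pow_le_pow_right (by norm_num) this
      have := eq_of_le_of_card_ge hle (by omega)
      intro y hy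
      exact mem_klein.1 (this ▸ hy)
    have hzP : ∀ p ∈ P, p * w ^ 2 = w ^ 2 * p := fun p hp => by
      rw [← hzw]; exact congrArg Subtype.val (hzc ⟨p, hp⟩)
    have hfour : Four (w ^ 2) (f : G) := by
      obtain ⟨-, h2, h3, -, h5, h6⟩ := hf
      refine ⟨hz1, fun h => h2 (Subtype.ext h), fun h => h3 (Subtype.ext (hzw.trans h)), hset.z2,
        congrArg Subtype.val h5, ?_⟩
      rw [← hzw]; exact congrArg Subtype.val h6
    have hfs : FourSetting A P S t w (w ^ 2) (f : G) := by
      refine ⟨hset, ⟨hES hfE, f.2⟩, hfour, hzP, fun p hp => ?_⟩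
      rcases hEk _ (hEn.conj_mem f hfE ⟨p, hp⟩) with e | e | e | e
      · exact absurd (conj_eq_one_iff.1 e) hf'.1
      · exfalso
        apply hf'.2
        have : f = (⟨p, hp⟩ : P)⁻¹ * z * ⟨p, hp⟩ := by rw [← e]; group
        rw [this, mul_assoc, ← hzc, ← mul_assoc, inv_mul_cancel, one_mul]
      · exact Or.inl (congrArg Subtype.val e)
      · refine Or.inr ?_
        have := congrArg Subtype.val e
        rw [← hzw]
        rw [show ((f : G)) * (z : G) = (z : G) * (f : G) from congrArg Subtype.val hf.2.2.2.2.2.symm]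
        exact this
    by_cases hwf : w * (f : G) = (f : G) * w
    · obtain ⟨L, hL⟩ := hfs.exists_half hwf
      exact hL.absurd'
    · exact hfs.not_moved hwf
  · obtain ⟨g', hg'⟩ := hcyc.exists_generator
    obtain ⟨h11, h12, h13, h14, h15, -⟩ := h₁
    let A₁ : A.subgroupOf P := ⟨⟨a₁, ha₁.2⟩, ha₁.1⟩
    let B₁ : A.subgroupOf P := ⟨⟨b₁, hb₁.2⟩, hb₁.1⟩
    obtain ⟨k, hk⟩ := (hP2.to_subgroup (A.subgroupOf P)) g'
    obtain ⟨e, -, he⟩ := (Nat.dvd_prime_pow Nat.prime_two).mp (orderOf_dvd_of_pow_eq_one hk)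
    rcases e with _ | e
    · have h1 : g' = 1 := orderOf_eq_one_iff.1 (by simpa using he)
      obtain ⟨i, hi⟩ := mem_zpowers_iff.mp (hg' A₁)
      rw [h1, one_zpow] at hi
      exact h11 (congrArg (fun t : A.subgroupOf P => ((t : P) : G)) hi).symm
    · rcases sq_eq_one_or_eq he (hg' A₁) (by ext; simpa [A₁] using h14) with h | h
      · exact h11 (congrArg (fun t : A.subgroupOf P => ((t : P) : G)) h)
      rcases sq_eq_one_or_eq he (hg' B₁) (by ext; simpa [B₁] using h15) with h' | h'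
      · exact h12 (congrArg (fun t : A.subgroupOf P => ((t : P) : G)) h')
      exact h13 (congrArg (fun t : A.subgroupOf P => ((t : P) : G)) (h.trans h'.symm))
  · obtain ⟨m, rfl⟩ : ∃ m, n = m + 2 := ⟨n - 2, by omega⟩
    set X : G := (x : G) with hX
    have tog : ∀ p : P, (p : G) ∈ zpowers X ↔ p ∈ zpowers x := by
      intro p
      constructor
      · intro hp
        obtain ⟨i, hi⟩ := mem_zpowers_iff.mp hp
        exact mem_zpowers_iff.mpr ⟨i, Subtype.ext (by simpa [hX] using hi)⟩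
      · intro hp
        obtain ⟨i, hi⟩ := mem_zpowers_iff.mp hp
        exact mem_zpowers_iff.mpr ⟨i, by simpa [hX] using congrArg Subtype.val hi⟩
    refine hset.case_cyclic (X := X) (n := m) ⟨⟨hxA, x.2⟩, by rw [hX, Subgroup.orderOf_coe, hxo],
      fun g hg hgn h hh hhn => (tog (⟨g, hg.2⟩ * ⟨h, hh.2⟩)).2
        (hidx ⟨g, hg.2⟩ hg.1 (fun e => hgn ((tog _).2 e)) ⟨h, hh.2⟩ hh.1
          (fun e => hhn ((tog _).2 e))), fun g hg hgn => ?_⟩ (fun p hp => ?_) ha₁ hb₁ h₁
    · obtain ⟨r, hr⟩ := exists_conj_eq_zpow hxn ⟨g, hg.2⟩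
      exact ⟨r, by simpa [hX] using congrArg Subtype.val hr,
        hr3 ⟨g, hg.2⟩ hg.1 (fun e => hgn ((tog _).2 e)) r hr⟩
    · exact (tog (⟨p, hp⟩ * x * ⟨p, hp⟩⁻¹)).2 (hxn.conj_mem _ (mem_zpowers x) ⟨p, hp⟩)

end Cfsg.CyclicFourFixed1914
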