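import Cfsg.Agent.FourGroupRank1915.Main

/-!
# Tools for involutions with small fixed point subgroup on a perfect group
-/

namespace Cfsg.CyclicFourFixed1914

set_option linter.unusedSectionVars false

open Subgroup Cfsg.Agent.PGroupsCyclic Cfsg.Agent.PGroupsBasic Cfsg.FourGroupRank1915

variable {G : Type*} [Group G] [Finite G]

/-- `S` is a maximal `2`-subgroup of the perfect group `A`, up to conjugacy in `A`. -/
structure Frame (A S : Subgroup G) : Prop where
  perf : ⁅(⊤ : Subgroup A), (⊤ : Subgroup A)⁆ = ⊤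
  le : S ≤ A
  two : IsPGroup 2 S
  dom : ∀ Q : Subgroup G, Q ≤ A → IsPGroup 2 Q → ∃ h ∈ A, ∀ q ∈ Q, h * q * h⁻¹ ∈ S

theorem sq_two {y : G} (h : y ^ 2 = 1) : y * y = 1 := by rwa [← pow_two]

theorem inv_self_of_sq {y : G} (h : y ^ 2 = 1) : y⁻¹ = y :=
  inv_eq_of_mul_eq_one_right (sq_two h)

theorem card_le_of_conj {Q S : Subgroup G} {h : G} (hh : ∀ q ∈ Q, h * q * h⁻¹ ∈ S) :
    Nat.card Q ≤ Nat.card S := by
  refine Nat.card_le_card_of_injective (fun q : Q => (⟨h * q * h⁻¹, hh q q.2⟩ : S)) ?_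
  intro q q' e
  exact Subtype.ext (mul_left_cancel (mul_right_cancel (congrArg Subtype.val e)))

theorem Frame.card_le {A S : Subgroup G} (F : Frame A S) {Q : Subgroup G} (hQA : Q ≤ A)
    (hQ : IsPGroup 2 Q) : Nat.card Q ≤ Nat.card S := by
  obtain ⟨h, -, hh⟩ := F.dom Q hQA hQ
  exact card_le_of_conj hh

theorem Frame.exists_sylow {A S : Subgroup G} (F : Frame A S) :
    ∃ P : Sylow 2 A, (P : Subgroup A) = S.subgroupOf A := by
  obtain ⟨P, hP⟩ := (F.two.comap_subtype (K := A)).exists_le_sylow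
  refine ⟨P, (eq_of_le_of_card_ge hP ?_).symm⟩
  calc Nat.card (P : Subgroup A)
      = Nat.card ((P : Subgroup A).map A.subtype) :=
        Nat.card_congr ((P : Subgroup A).equivMapOfInjective _ A.subtype_injective).toEquiv
    _ ≤ Nat.card S := F.card_le (map_subtype_le _) (P.isPGroup'.map _)
    _ = Nat.card (S.subgroupOf A) := (Nat.card_congr (subgroupOfEquivOfLe F.le).toEquiv).symm

/-- Sylow subgroups of the centralizer of an element central in `S`. -/
theorem Frame.dom_centralizer {A S : Subgroup G} (F : Frame A S) {z : G}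
    (hzS : ∀ y ∈ S, y * z = z * y) {Q : Subgroup G} (hQA : Q ≤ A) (hQ : IsPGroup 2 Q)
    (hQz : ∀ q ∈ Q, q * z = z * q) :
    ∃ h ∈ A, h * z = z * h ∧ ∀ q ∈ Q, h * q * h⁻¹ ∈ S := by
  have : Fact (Nat.Prime 2) := ⟨Nat.prime_two⟩
  set L := A ⊓ centralizer ({z} : Set G) with hL
  have hSL : S ≤ L := le_inf F.le fun y hy => mem_centralizer_singleton_iff.mpr (hzS y hy)
  have hQL : Q ≤ L := le_inf hQA fun y hy => mem_centralizer_singleton_iff.mpr (hQz y hy)
  obtain ⟨PS, hPS⟩ := (F.two.comap_subtype (K := L)).exists_le_sylow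
  have hPSeq : (PS : Subgroup L) = S.subgroupOf L := by
    refine (eq_of_le_of_card_ge hPS ?_).symm
    calc Nat.card (PS : Subgroup L)
        = Nat.card ((PS : Subgroup L).map L.subtype) :=
          Nat.card_congr ((PS : Subgroup L).equivMapOfInjective _ L.subtype_injective).toEquiv
      _ ≤ Nat.card S := F.card_le ((map_subtype_le _).trans inf_le_left) (PS.isPGroup'.map _)
      _ = Nat.card (S.subgroupOf L) := (Nat.card_congr (subgroupOfEquivOfLe hSL).toEquiv).symm
  obtain ⟨PQ, hPQ⟩ := (hQ.comap_subtype (K := L)).exists_le_sylow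
  obtain ⟨k, hk⟩ := MulAction.exists_smul_eq L PQ PS
  refine ⟨k, k.2.1, mem_centralizer_singleton_iff.mp k.2.2, fun q hq => ?_⟩
  have hm : k * ⟨q, hQL hq⟩ * k⁻¹ ∈ (PS : Subgroup L) := by
    rw [← hk]
    exact ⟨_, hPQ (hq : (⟨q, hQL hq⟩ : L) ∈ Q.subgroupOf L), rfl⟩
  rw [hPSeq] at hm
  exact hm

/-- A `2`-subgroup centralizing a conjugate of a central element of `S` grows. -/
theorem Frame.exists_normalizing {A S : Subgroup G} (F : Frame A S) {s a z : G}
    (haA : a ∈ A) (hasz : a * s * a⁻¹ = z) (hzS : ∀ y ∈ S, y * z = z * y) {K : Subgroup G}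
    (hKA : K ≤ A) (hK2 : IsPGroup 2 K) (hKs : ∀ k ∈ K, k * s = s * k)
    (hlt : Nat.card K < Nat.card S) :
    ∃ y : G, y ∈ A ∧ y * s = s * y ∧ (∀ k ∈ K, y * k * y⁻¹ ∈ K) ∧ y ∉ K ∧
      IsPGroup 2 (closure ({y} ∪ (K : Set G)) : Subgroup G) := by
  have : Fact (Nat.Prime 2) := ⟨Nat.prime_two⟩
  set L := A ⊓ centralizer ({s} : Set G) with hL
  have hKL : K ≤ L := le_inf hKA fun y hy => mem_centralizer_singleton_iff.mpr (hKs y hy)
  obtain ⟨Q, hQ⟩ := (hK2.comap_subtype (K := L)).exists_le_sylow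
  set Qg := (Q : Subgroup L).map L.subtype with hQg
  have hQgL : Qg ≤ L := map_subtype_le _
  have hKQ : K ≤ Qg := fun y hy => ⟨⟨y, hKL hy⟩, hQ hy, rfl⟩
  have hQg2 : IsPGroup 2 Qg := Q.isPGroup'.map _
  have hlt' : K.subgroupOf Qg < ⊤ := by
    rw [lt_top_iff_ne_top, Ne, subgroupOf_eq_top]
    intro hle
    have h1 : Nat.card Qg ≤ Nat.card K := Nat.card_le_card_of_injective (Subgroup.inclusion hle)
      (Subgroup.inclusion_injective hle)
    let Sa : Subgroup G := S.map (MulAut.conj a⁻¹).toMonoidHom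
    have hSaL : Sa ≤ L := by
      rintro _ ⟨q, hq, rfl⟩
      refine ⟨?_, mem_centralizer_singleton_iff.mpr ?_⟩
      · simpa using mul_mem (mul_mem (inv_mem haA) (F.le hq)) haA
      · have hs' : s = a⁻¹ * z * a := by rw [← hasz]; group
        simp only [MulEquiv.coe_toMonoidHom, MulAut.conj_apply, inv_inv]
        rw [hs']
        calc a⁻¹ * q * a * (a⁻¹ * z * a) = a⁻¹ * (q * z) * a := by group
          _ = a⁻¹ * (z * q) * a := by rw [hzS q hq]
          _ = _ := by group
    obtain ⟨Q', hQ'⟩ :=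
      ((F.two.map (MulAut.conj a⁻¹).toMonoidHom).comap_subtype (K := L)).exists_le_sylow
    have h2 : Nat.card S ≤ Nat.card Qg := by
      calc Nat.card S = Nat.card Sa := Nat.card_congr
            (S.equivMapOfInjective _ (MulAut.conj a⁻¹).injective).toEquiv
        _ = Nat.card (Sa.subgroupOf L) := (Nat.card_congr (subgroupOfEquivOfLe hSaL).toEquiv).symm
        _ ≤ Nat.card (Q' : Subgroup L) := Nat.card_le_card_of_injective (Subgroup.inclusion hQ')
            (Subgroup.inclusion_injective hQ')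
        _ = Nat.card (Q : Subgroup L) := by rw [Sylow.card_eq_multiplicity, Sylow.card_eq_multiplicity]
        _ = Nat.card Qg := Nat.card_congr
            ((Q : Subgroup L).equivMapOfInjective _ L.subtype_injective).toEquiv
    omega
  have := hQg2.isNilpotent
  obtain ⟨y, hy, hy'⟩ := SetLike.exists_of_lt (Group.normalizerCondition_of_isNilpotent _ hlt')
  refine ⟨y, (hQgL y.2).1, mem_centralizer_singleton_iff.mp (hQgL y.2).2,
    fun k hk => (mem_normalizer_iff.mp hy ⟨k, hKQ hk⟩).mp hk, fun h => hy' h, ?_⟩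
  refine hQg2.to_le ((closure_le _).2 ?_)
  rintro t (ht | ht)
  · rw [Set.mem_singleton_iff.mp ht]; exact y.2
  · exact hKQ ht

/-- Transfer: if all conjugates of `x` in `S` are congruent to `x` modulo a subgroup `J` with
abelian quotient, then `x ∈ J`. -/
theorem Frame.mem_of_fusion {A S : Subgroup G} (F : Frame A S) (J : Subgroup S) [J.Normal]
    (hcomm : ∀ a b : S, a * b * (b * a)⁻¹ ∈ J) {x : G} (hxS : x ∈ S) (hx2 : orderOf x = 2)
    (hconj : ∀ g ∈ A, ∀ h : g * x * g⁻¹ ∈ S, (⟨x, hxS⟩ : S)⁻¹ * ⟨_, h⟩ ∈ J) :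
    (⟨x, hxS⟩ : S) ∈ J := by
  have : Fact (Nat.Prime 2) := ⟨Nat.prime_two⟩
  obtain ⟨P, hP⟩ := F.exists_sylow
  let _ : CommGroup (S ⧸ J) :=
    { (inferInstance : Group (S ⧸ J)) with
      mul_comm := fun a b => by
        induction a using QuotientGroup.induction_on with
        | H a =>
          induction b using QuotientGroup.induction_on with
          | H b =>
            rw [← QuotientGroup.mk_mul, ← QuotientGroup.mk_mul, QuotientGroup.eq_iff_div_mem,
              div_eq_mul_inv]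
            exact hcomm a b }
  let f : (P : Subgroup A) →* S :=
    { toFun := fun y => ⟨((y : A) : G), (SetLike.ext_iff.mp hP _).mp y.2⟩
      map_one' := rfl
      map_mul' := fun _ _ => rfl }
  let ϕ : (P : Subgroup A) →* S ⧸ J := (QuotientGroup.mk' J).comp f
  have hA : IsPGroup 2 (S ⧸ J) := F.two.to_quotient J
  have hxA : x ∈ A := F.le hxS
  have hxP : (⟨x, hxA⟩ : A) ∈ (P : Subgroup A) := by rw [hP]; exact hxS
  by_contra hne
  have hne' : ϕ ⟨⟨x, hxA⟩, hxP⟩ ≠ 1 := fun h => hne ((QuotientGroup.eq_one_iff _).mp h)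
  refine Cfsg.Agent.TransferThompson.transfer_ne_one P hA ϕ hxP hne' ?_ ?_ ?_
  · intro g k hk h
    have h1 : (⟨x, hxA⟩ : A) ^ k = 1 := by
      apply Subtype.ext
      show x ^ k = 1
      exact orderOf_dvd_iff_pow_eq_one.mp (hx2.symm ▸ hk)
    have e : (⟨_, h⟩ : (P : Subgroup A)) = 1 := by apply Subtype.ext; simp [h1]
    rw [e, map_one]
  · intro g h
    have h' : (g⁻¹ : A) * x * ((g⁻¹ : A) : G)⁻¹ ∈ S := by
      have := (SetLike.ext_iff.mp hP _).mp h
      simpa [mem_subgroupOf] using this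
    have := hconj _ (g⁻¹ : A).2 h'
    refine (QuotientGroup.eq.mpr ?_).symm
    have e1 : f ⟨g⁻¹ * ⟨x, hxA⟩ * g, h⟩ = ⟨_, h'⟩ := by apply Subtype.ext; simp [f]
    rw [e1]
    exact this
  · have hker : (⊤ : Subgroup A) ≤ (MonoidHom.transfer ϕ).ker := by
      rw [← F.perf]
      exact Abelianization.commutator_subset_ker _
    exact hker (mem_top _)

/-- If all conjugates of an involution avoid an index-two subgroup, contradiction with perfection. -/
theorem Frame.exists_conj_mem {A S : Subgroup G} (F : Frame A S) (J : Subgroup G) (hJS : J ≤ S)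
    {x : G} (hxS : x ∈ S) (hx1 : x ≠ 1) (hx2 : x ^ 2 = 1) (hxJ : x ∉ J)
    (hidx : ∀ y ∈ S, y ∈ J ∨ y * x ∈ J) :
    ∃ a ∈ A, a * x * a⁻¹ ∈ J := by
  by_contra hno
  push Not at hno
  have hJ2 : (J.subgroupOf S).index = 2 := by
    rw [index_eq_two_iff]
    refine ⟨⟨x, hxS⟩, fun b => ?_⟩
    simp only [mem_subgroupOf, Subgroup.coe_mul]
    rcases hidx b b.2 with h | h
    · exact Or.inr ⟨h, fun h' => hxJ (by simpa using mul_mem (inv_mem h) h')⟩
    · exact Or.inl ⟨h, fun h' => hxJ (by simpa using mul_mem (inv_mem h') h)⟩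
  have := normal_of_index_eq_two hJ2
  apply hxJ
  refine F.mem_of_fusion (J.subgroupOf S) ?_ hxS (orderOf_eq_prime hx2 hx1) ?_
  · intro a b
    simp [mul_mem_iff_of_index_two hJ2, inv_mem_iff]
  · intro g hg h
    rw [mul_mem_iff_of_index_two hJ2, inv_mem_iff]
    exact iff_of_false (fun h' => hxJ h') (fun h' => hno g hg h')

end Cfsg.CyclicFourFixed1914
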