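import Cfsg.Agent.CyclicFourFixed1914.Tools

/-!
# An outer element of order four centralizing a four group
-/

namespace Cfsg.CyclicFourFixed1914

open Subgroup Cfsg.Agent.PGroupsCyclic Cfsg.Agent.PGroupsBasic Cfsg.FourGroupRank1915

variable {G : Type*} [Group G] [Finite G]

set_option maxHeartbeats 800000

/-- Facts about a maximal `2`-subgroup with a cyclic subgroup of index two. -/
structure Rot (S : Subgroup G) (X : G) (n : ℕ) : Prop where
  mem : X ∈ S
  ord : orderOf X = 2 ^ (n + 2)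
  idx : ∀ g ∈ S, g ∉ zpowers X → ∀ h ∈ S, h ∉ zpowers X → g * h ∈ zpowers X
  act : ∀ g ∈ S, g ∉ zpowers X → ∃ r : ℤ, g * X * g⁻¹ = X ^ r ∧ r % 4 = 3

/-- An element outside `A` of square `z` centralizing the four group `⟨z, s⟩` is impossible. -/
theorem Rot.twist_false {A S : Subgroup G} (F : Frame A S) {X : G} {n : ℕ} (hRot : Rot S X n)
    {s xx : G} (hsS : s ∈ S) (hsR : s ∉ zpowers X) (hs2 : s ^ 2 = 1)
    (hzP : ∀ p ∈ S, p * X ^ (2 ^ (n + 1)) = X ^ (2 ^ (n + 1)) * p)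
    (hxxN : ∀ a ∈ A, xx * a * xx⁻¹ ∈ A) (hxxA : xx ∉ A)
    (hxz : xx * X ^ (2 ^ (n + 1)) = X ^ (2 ^ (n + 1)) * xx) (hxs : xx * s = s * xx)
    (hxx2 : xx ^ 2 = X ^ (2 ^ (n + 1))) : False := by
  obtain ⟨hXS, hXo, hidx', hr3'⟩ := hRot
  set z : G := X ^ (2 ^ (n + 1)) with hzdef
  set w : G := X ^ (2 ^ n) with hwdef
  have hzR : z ∈ zpowers X := pow_mem (mem_zpowers X) _
  have hwR : w ∈ zpowers X := pow_mem (mem_zpowers X) _
  have hRS : zpowers X ≤ S := zpowers_le.mpr hXS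
  have hw2 : w ^ 2 = z := by rw [hwdef, hzdef, ← pow_mul, ← pow_succ]
  have hz2 : z ^ 2 = 1 := by
    rw [hzdef, ← pow_mul, ← pow_succ, ← hXo, pow_orderOf_eq_one]
  have hz1 : z ≠ 1 := by
    intro h
    have := orderOf_dvd_of_pow_eq_one h
    rw [hXo, Nat.pow_dvd_pow_iff_le_right (by norm_num)] at this
    omega
  have hinv : ∀ y ∈ zpowers X, y ^ 2 = 1 → y = 1 ∨ y = z := fun y hy h2 =>
    sq_eq_one_or_eq (n := n + 1) hXo hy h2
  -- centralizer of an outside involution in the cyclic part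
  have hcR : ∀ g ∈ S, g ∉ zpowers X → ∀ y ∈ zpowers X, g * y = y * g → y ^ 2 = 1 := by
    intro g hg hgn y hy hgy
    obtain ⟨j, rfl⟩ := mem_zpowers_iff.mp hy
    obtain ⟨r, hr, hr4⟩ := hr3' g hg hgn
    have h1 : X ^ (r * j) = X ^ j := by
      rw [← conj_zpow_eq hr, hgy, mul_inv_cancel_right]
    rw [zpow_eq_iff_dvd, hXo] at h1
    push_cast at h1
    rw [← zpow_natCast, ← zpow_mul, ← orderOf_dvd_iff_zpow_eq_one, hXo]
    push_cast
    obtain ⟨k, hk⟩ : ∃ k, r = 4 * k + 3 := ⟨r / 4, by omega⟩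
    rw [show r * j - j = (2 * (2 * k + 1)) * j by rw [hk]; ring] at h1
    have hcop : IsCoprime ((2 : ℤ) ^ (n + 2)) (2 * k + 1) := by
      refine IsCoprime.pow_left ?_
      exact ⟨-k, 1, by ring⟩
    rw [show 2 * (2 * k + 1) * j = (2 * k + 1) * (j * 2) by ring] at h1
    exact hcop.dvd_of_dvd_mul_left h1
  -- four groups of `S`
  have hKS : ∀ a ∈ S, ∀ b ∈ S, Four a b →
      (∃ s ∈ S, s ∉ zpowers X ∧ s ^ 2 = 1 ∧ (s = a ∨ s = b) ∧
        (z = a ∨ z = b ∨ z = a * b)) := by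
    intro a ha b hb hf
    obtain ⟨ha1, hb1, hne, ha2, hb2, hab⟩ := hf
    by_cases haR : a ∈ zpowers X
    · have haz : a = z := (hinv a haR ha2).resolve_left ha1
      have hbR : b ∉ zpowers X := fun h => hne (haz.trans ((hinv b h hb2).resolve_left hb1).symm)
      exact ⟨b, hb, hbR, hb2, Or.inr rfl, Or.inl haz.symm⟩
    by_cases hbR : b ∈ zpowers X
    · exact ⟨a, ha, haR, ha2, Or.inl rfl, Or.inr (Or.inl ((hinv b hbR hb2).resolve_left hb1).symm)⟩
    have habR := hidx' a ha haR b hb hbR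
    have hab1 : a * b ≠ 1 := fun h => hne (by
      rw [eq_inv_of_mul_eq_one_left h]
      exact inv_eq_of_mul_eq_one_right (by rw [← pow_two]; exact hb2))
    refine ⟨a, ha, haR, ha2, Or.inl rfl, Or.inr (Or.inr ?_)⟩
    exact ((hinv _ habR (by rw [(show Commute a b from hab).mul_pow, ha2, hb2, one_mul])).resolve_left
      hab1).symm
  have hSC : ∀ Q : Subgroup G, Q ≤ A → IsPGroup 2 Q → ∀ a ∈ Q, ∀ b ∈ Q, ∀ hf : Four a b,
      (∀ q ∈ Q, q * a = a * q ∧ q * b = b * q) → ∀ q ∈ Q, q ∈ klein hf := by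
    intro Q hQA hQ2 a ha b hb hf hcomm q hq
    obtain ⟨h, -, hh⟩ := F.dom Q hQA hQ2
    set c : G → G := fun t => h * t * h⁻¹ with hc
    have hcm : ∀ s t, c (s * t) = c s * c t := fun s t => by simp only [hc]; group
    obtain ⟨s, hsS, hsR, hs2, hsab, hzab⟩ := hKS (c a) (hh a ha) (c b) (hh b hb) (hf.conj h)
    have hqs : c q * s = s * c q := by
      obtain ⟨e1, e2⟩ := hcomm q hq
      rcases hsab with h' | h' <;> (rw [h', ← hcm, ← hcm]; first | rw [e1] | rw [e2])
    have hkz : ∃ k ∈ klein hf, c k = z := by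
      rcases hzab with h' | h' | h'
      · exact ⟨a, by simp [mem_klein], h'.symm⟩
      · exact ⟨b, by simp [mem_klein], h'.symm⟩
      · exact ⟨a * b, by simp [mem_klein], by rw [hcm, h']⟩
    have hks : ∃ k ∈ klein hf, c k = s := by
      rcases hsab with h' | h'
      · exact ⟨a, by simp [mem_klein], h'.symm⟩
      · exact ⟨b, by simp [mem_klein], h'.symm⟩
    have hk1 : c 1 = 1 := by simp [hc]
    have hinj : ∀ {s t}, c s = c t → s = t := fun e => mul_left_cancel (mul_right_cancel e)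
    obtain ⟨kz, hkz1, hkz2⟩ := hkz
    obtain ⟨ks, hks1, hks2⟩ := hks
    have hR : ∀ y ∈ zpowers X, s * y = y * s → ∃ k ∈ klein hf, c k = y := by
      intro y hy hsy
      rcases hinv y hy (hcR s hsS hsR y hy hsy) with rfl | rfl
      · exact ⟨1, one_mem _, hk1⟩
      · exact ⟨kz, hkz1, hkz2⟩
    by_cases hqR : c q ∈ zpowers X
    · obtain ⟨k, hk, hk'⟩ := hR _ hqR hqs.symm
      rwa [← hinj hk']
    · obtain ⟨k, hk, hk'⟩ := hR _ (hidx' _ (hh q hq) hqR s hsS hsR)
        (by rw [← mul_assoc, ← hqs])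
      have : c q = c (k * ks) := by
        rw [hcm, hk', hks2, mul_assoc, show s * s = 1 by rw [← pow_two]; exact hs2, mul_one]
      rw [hinj this]
      exact mul_mem hk hks1
  have hs1 : s ≠ 1 := fun h => hsR (h ▸ one_mem _)
  have hsz : Four z s := ⟨hz1, hs1, fun h => hsR (h ▸ hzR), hz2, hs2, (hzP s hsS).symm⟩
  obtain ⟨a, haA, haR⟩ := F.exists_conj_mem (zpowers X) hRS hsS hs1 hs2 hsR (fun y hy => by
    by_cases h : y ∈ zpowers X
    · exact Or.inl h
    · exact Or.inr (hidx' y hy h s hsS hsR))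
  have hasz : a * s * a⁻¹ = z :=
    (hinv _ haR (by rw [conj_pow, hs2, mul_one, mul_inv_cancel])).resolve_left
      (mt conj_eq_one_iff.1 hs1)
  set K := klein hsz with hK
  have hKS' : K ≤ S := fun t ht => by
    rcases mem_klein.1 ht with rfl | rfl | rfl | rfl
    · exact one_mem _
    · exact hRS hzR
    · exact hsS
    · exact mul_mem (hRS hzR) hsS
  have hKA : K ≤ A := hKS'.trans F.le
  have hK2 : IsPGroup 2 K := F.two.to_le hKS'
  have hKz : z ∈ K := by simp [hK, mem_klein]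
  have hKs : s ∈ K := by simp [hK, mem_klein]
  have hlt : Nat.card K < Nat.card S := by
    have hne : K ≠ S := by
      intro h
      have hwK : w ∈ K := h ▸ hRS hwR
      exact hz1 (hw2 ▸ (klein_elementary hsz).2 w hwK)
    have := Set.ncard_lt_ncard (SetLike.coe_ssubset_coe.mpr (lt_of_le_of_ne hKS' hne)) (Set.toFinite _)
    rwa [← Nat.card_coe_set_eq, ← Nat.card_coe_set_eq] at this
  obtain ⟨y, hyA, hys, hyn, hyK, hyQ⟩ := F.exists_normalizing haA hasz hzP hKA hK2
    (fun k hk => comm_of_isMulCommutative (klein_elementary hsz).1 hk hKs) hlt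
  have hyz : y * z * y⁻¹ ≠ z := by
    intro h
    apply hyK
    have hle : closure ({y} ∪ (K : Set G)) ≤ A ⊓ centralizer ({z, s} : Set G) := by
      rw [closure_le]
      rintro t (ht | ht)
      · rw [Set.mem_singleton_iff.mp ht]
        refine mem_inf.mpr ⟨hyA, ?_⟩
        rw [mem_centralizer_iff]
        intro g hg
        simp only [Set.mem_insert_iff, Set.mem_singleton_iff] at hg
        rcases hg with rfl | rfl
        · exact (mul_inv_eq_iff_eq_mul.1 h).symm
        · exact hys.symm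
      · refine mem_inf.mpr ⟨hKA ht, ?_⟩
        rw [mem_centralizer_iff]
        intro g hg
        simp only [Set.mem_insert_iff, Set.mem_singleton_iff] at hg
        rcases hg with rfl | rfl
        · exact comm_of_isMulCommutative (klein_elementary hsz).1 hKz ht
        · exact comm_of_isMulCommutative (klein_elementary hsz).1 hKs ht
    exact hSC _ (hle.trans inf_le_left) hyQ z (subset_closure (Or.inr hKz)) s
      (subset_closure (Or.inr hKs)) hsz (fun q hq => by
        have := mem_centralizer_iff.mp (hle hq).2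
        exact ⟨(this z (by simp)).symm, (this s (by simp)).symm⟩) y
      (subset_closure (Or.inl rfl))
  have hzA : z ∈ A := hKA hKz
  have hxxN' : ∀ a ∈ A, xx⁻¹ * a * xx ∈ A := by
    intro a ha
    have hsq : xx * xx = z := by rw [← pow_two]; exact hxx2
    have := mul_mem (mul_mem (inv_mem hzA) (hxxN a ha)) hzA
    rwa [← hsq, mul_inv_rev, show xx⁻¹ * xx⁻¹ * (xx * a * xx⁻¹) * (xx * xx) = xx⁻¹ * a * xx by group]
      at this
  let Au : Subgroup G :=
    { carrier := {g | g ∈ A ∨ xx⁻¹ * g ∈ A}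
      one_mem' := Or.inl (one_mem _)
      mul_mem' := by
        intro g g' hg hg'
        rcases hg with hg | hg <;> rcases hg' with hg' | hg'
        · exact Or.inl (mul_mem hg hg')
        · refine Or.inr ?_
          have := mul_mem (hxxN' g hg) hg'
          rwa [show xx⁻¹ * g * xx * (xx⁻¹ * g') = xx⁻¹ * (g * g') by group] at this
        · refine Or.inr ?_
          rw [← mul_assoc]
          exact mul_mem hg hg'
        · refine Or.inl ?_
          have := mul_mem (mul_mem (hxxN _ hg) hzA) hg'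
          rwa [← hxx2, show xx * (xx⁻¹ * g) * xx⁻¹ * xx ^ 2 * (xx⁻¹ * g') = g * g' by group] at this
      inv_mem' := by
        intro g hg
        rcases hg with hg | hg
        · exact Or.inl (inv_mem hg)
        · refine Or.inr ?_
          have := mul_mem (inv_mem hzA) (hxxN _ (inv_mem hg))
          rwa [← hxx2, show (xx ^ 2)⁻¹ * (xx * (xx⁻¹ * g)⁻¹ * xx⁻¹) = xx⁻¹ * g⁻¹ by group] at this }
  set LK := Au ⊓ centralizer (K : Set G) with hLK
  have hcentK : ∀ g, g * z = z * g → g * s = s * g → g ∈ centralizer (K : Set G) := by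
    intro g h1 h2
    rw [mem_centralizer_iff]
    intro k hk
    rcases mem_klein.1 hk with rfl | rfl | rfl | rfl
    · simp
    · exact h1.symm
    · exact h2.symm
    · exact ((show Commute g z from h1).mul_right (show Commute g s from h2)).eq.symm
  have hKLK : K ≤ LK := fun k hk => ⟨Or.inl (hKA hk), mem_centralizer_iff.mpr fun g hg =>
    comm_of_isMulCommutative (klein_elementary hsz).1 hg hk⟩
  have hxxL : xx ∈ LK := by
    refine ⟨Or.inr ?_, hcentK xx hxz hxs⟩
    simp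
  have hK0 : IsPGroup 2 (zpowers xx ⊔ K : Subgroup G) := by
    refine IsPGroup.to_sup_of_normal_right' ?_ hK2 ?_
    · intro g
      obtain ⟨i, hi⟩ := mem_zpowers_iff.mp g.2
      refine ⟨2, Subtype.ext ?_⟩
      show (g : G) ^ (2 ^ 2) = 1
      rw [← hi, ← zpow_natCast, ← zpow_mul, mul_comm, zpow_mul, zpow_natCast,
        show (2 : ℕ) ^ 2 = 2 * 2 from rfl, pow_mul, hxx2, hz2, one_zpow]
    · exact (zpowers_le.mpr hxxL.2).trans (Subgroup.centralizer_le_normalizer _)
  have hK0L : zpowers xx ⊔ K ≤ LK := sup_le (zpowers_le.mpr hxxL) hKLK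
  obtain ⟨Q1, hQ1⟩ := (hK0.comap_subtype (K := LK)).exists_le_sylow
  have hsqQ1 : ∀ q : LK, q ∈ (Q1 : Subgroup LK) → (q : G) ^ 2 = 1 ∨ (q : G) ^ 2 = z := by
    set Q3 := A ⊓ (Q1 : Subgroup LK).map LK.subtype with hQ3
    have hKQ3 : K ≤ Q3 := fun k hk =>
      ⟨hKA hk, ⟨⟨k, hKLK hk⟩, hQ1 (mem_sup_right hk : k ∈ zpowers xx ⊔ K), rfl⟩⟩
    have hQ3K : ∀ q ∈ Q3, q ∈ K := hSC Q3 inf_le_left ((Q1.isPGroup'.map _).to_le inf_le_right)
      z (hKQ3 hKz) s (hKQ3 hKs) hsz (fun q hq => by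
        obtain ⟨q', -, rfl⟩ := hq.2
        exact ⟨(mem_centralizer_iff.mp q'.2.2 z hKz).symm, (mem_centralizer_iff.mp q'.2.2 s hKs).symm⟩)
    intro q hq
    rcases q.2.1 with hqA | hqA
    · exact Or.inl ((klein_elementary hsz).2 _ (hQ3K q ⟨hqA, q, hq, rfl⟩))
    · right
      have hxQ : (⟨xx, hxxL⟩ : LK) ∈ (Q1 : Subgroup LK) :=
        hQ1 (mem_sup_left (mem_zpowers xx) : xx ∈ zpowers xx ⊔ K)
      have hkA : xx⁻¹ * (q : G) ∈ A := hqA
      have hk : xx⁻¹ * (q : G) ∈ K := hQ3K _ (mem_inf.mpr ⟨hkA,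
        ⟨(⟨xx, hxxL⟩ : LK)⁻¹ * q, mul_mem (inv_mem hxQ) hq, rfl⟩⟩)
      have hc : Commute xx (xx⁻¹ * (q : G)) := (mem_centralizer_iff.mp hxxL.2 _ hk).symm
      have := hc.mul_pow 2
      rwa [mul_inv_cancel_left, (klein_elementary hsz).2 _ hk, mul_one, hxx2] at this
  have hyinv : ∀ k ∈ K, y⁻¹ * k * y ∈ K := by
    intro k hk
    have hmap : K.map (MulAut.conj y).toMonoidHom = K := by
      refine eq_of_le_of_card_ge ?_ ?_
      · rintro _ ⟨t, ht, rfl⟩
        exact hyn t ht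
      · rw [← Nat.card_congr (K.equivMapOfInjective _ (MulAut.conj y).injective).toEquiv]
    have hk' := hk
    rw [← hmap] at hk'
    obtain ⟨t, ht, rfl⟩ := hk'
    rw [show y⁻¹ * (MulAut.conj y).toMonoidHom t * y = t by simp [mul_assoc]]
    exact ht
  have hx' : y * xx * y⁻¹ ∈ LK := by
    refine mem_inf.mpr ⟨mul_mem (mul_mem (Or.inl hyA : y ∈ Au) (show xx ∈ Au from hxxL.1))
      (inv_mem (Or.inl hyA : y ∈ Au)), ?_⟩
    rw [mem_centralizer_iff]
    intro k hk
    have := mem_centralizer_iff.mp hxxL.2 _ (hyinv k hk)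
    calc k * (y * xx * y⁻¹) = y * (y⁻¹ * k * y * xx) * y⁻¹ := by group
      _ = y * (xx * (y⁻¹ * k * y)) * y⁻¹ := by rw [this]
      _ = _ := by group
  set x' : LK := ⟨_, hx'⟩ with hx'def
  have hx'2 : (x' : G) ^ 2 = y * z * y⁻¹ := by
    simp only [hx'def]; rw [conj_pow, hxx2]
  have hx'p : IsPGroup 2 (zpowers x') := by
    intro g
    obtain ⟨i, hi⟩ := mem_zpowers_iff.mp g.2
    refine ⟨2, Subtype.ext ?_⟩
    show (g : LK) ^ (2 ^ 2) = 1
    rw [← hi, ← zpow_natCast, ← zpow_mul, mul_comm, zpow_mul, zpow_natCast]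
    have : x' ^ (2 ^ 2) = 1 := Subtype.ext (by
      show (x' : G) ^ (2 ^ 2) = 1
      rw [show (2 : ℕ) ^ 2 = 2 * 2 from rfl, pow_mul, hx'2, conj_pow, hz2, mul_one, mul_inv_cancel])
    rw [this, one_zpow]
  obtain ⟨Q4, hQ4⟩ := hx'p.exists_le_sylow
  obtain ⟨k, hk⟩ := MulAction.exists_smul_eq LK Q4 Q1
  have hkx : k * x' * k⁻¹ ∈ (Q1 : Subgroup LK) := by
    rw [← hk]
    exact ⟨_, hQ4 (mem_zpowers x'), rfl⟩
  have hzy : y * z * y⁻¹ ∈ K := hyn z hKz
  have hkz : ((k * x' * k⁻¹ : LK) : G) ^ 2 = y * z * y⁻¹ := by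
    rw [Subgroup.coe_mul, Subgroup.coe_mul, InvMemClass.coe_inv, conj_pow, hx'2]
    rw [← (mem_centralizer_iff.mp k.2.2 _ hzy), mul_inv_cancel_right]
  rcases hsqQ1 _ hkx with h | h
  · rw [hkz, conj_eq_one_iff] at h; exact hz1 h
  · rw [hkz] at h; exact hyz h

end Cfsg.CyclicFourFixed1914
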